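import Cfsg.Agent.Lib.Char.OddBase.Reduce

/-!
# Small completely reducible groups of odd order
-/

set_option autoImplicit false
set_option linter.unusedSectionVars false
set_option linter.style.haveILetI false

namespace CfsgLib.Char.OddBase

universe u

theorem card_units_end_aux {W : Type u} [AddCommGroup W] [Finite W] {r k : ℕ} [hr : Fact r.Prime]
    [Module (ZMod r) W] (hcard : Nat.card W = r ^ k) :
    Nat.card (AddMonoid.End W)ˣ = Nat.card (GL (Fin k) (ZMod r)) := by
  have hk : Module.finrank (ZMod r) W = k := by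
    have h : Nat.card W = Nat.card (ZMod r) ^ Module.finrank (ZMod r) W :=
      Module.natCard_eq_pow_finrank
    rw [hcard, Nat.card_eq_fintype_card, ZMod.card] at h
    exact (Nat.pow_right_injective hr.out.two_le h).symm
  let b : Module.Basis (Fin k) (ZMod r) W := Module.finBasisOfFinrankEq (ZMod r) W hk
  let e1 : AddMonoid.End W ≃* Module.End (ZMod r) W :=
    { toFun := fun f => AddMonoidHom.toZModLinearMap r (f : W →+ W)
      invFun := fun f => f.toAddMonoidHom
      left_inv := fun f => rfl
      right_inv := fun f => rfl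
      map_mul' := fun f g => by ext w; rfl }
  exact Nat.card_congr ((Units.mapEquiv (e1.trans (LinearMap.toMatrixAlgEquiv b).toMulEquiv)).toEquiv)

/-- The automorphism group of an elementary abelian group of order `r ^ k`. -/
theorem card_units_end {W : Type u} [AddCommGroup W] [Finite W] {r k : ℕ} [hr : Fact r.Prime]
    (hW : ∀ w : W, r • w = 0) (hcard : Nat.card W = r ^ k) :
    Nat.card (AddMonoid.End W)ˣ = Nat.card (GL (Fin k) (ZMod r)) :=
  @card_units_end_aux W _ _ r k hr (AddCommGroup.zmodModule hW) hcard

/-- A normal `r`-subgroup of a completely reducible group in characteristic `r` is trivial. -/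
theorem IsCR.normal_pGroup_eq_bot {G W : Type u} [Group G] [Finite G] [AddCommGroup W] [Finite W]
    [DistribMulAction G W] [FaithfulSMul G W] (hcr : IsCR G W) {r k : ℕ} [hr : Fact r.Prime]
    (hW : Nat.card W = r ^ k) (P : Subgroup G) [P.Normal] (hP : IsPGroup r P) : P = ⊥ := by
  let U : AddSubgroup W :=
    { carrier := MulAction.fixedPoints P W
      add_mem' := fun {a b} ha hb g => by
        show (g : G) • (a + b) = a + b
        rw [smul_add, show (g : G) • a = a from ha g, show (g : G) • b = b from hb g]
      zero_mem' := fun g => smul_zero g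
      neg_mem' := fun {a} ha g => by
        show (g : G) • (-a) = -a
        rw [smul_neg, show (g : G) • a = a from ha g] }
  have hU : ∀ a : G, ∀ v ∈ U, a • v ∈ U := fun a w hw g => by
    show (g : G) • a • w = a • w
    rw [show (g : G) • a • w = a • (a⁻¹ * g * a) • w by rw [← mul_smul, ← mul_smul]; group]
    congr 1
    exact hw ⟨a⁻¹ * g * a, by
      have := (inferInstance : P.Normal).conj_mem _ g.2 a⁻¹
      rwa [inv_inv] at this⟩
  obtain ⟨X, hX, hbot, htop⟩ := hcr U hU
  have hXbot : X = ⊥ := by
    by_contra hne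
    haveI : Nontrivial X := (AddSubgroup.nontrivial_iff_ne_bot X).2 hne
    let inst : MulAction P X :=
      { smul := fun g x => ⟨(g : G) • (x : W), hX g x x.2⟩
        one_smul := fun x => Subtype.ext (one_smul G (x : W))
        mul_smul := fun a b x => Subtype.ext (mul_smul (a : G) b (x : W)) }
    have hd : r ∣ Nat.card X := by
      obtain ⟨j, -, hj⟩ := (Nat.dvd_prime_pow hr.out).1 (hW ▸ X.card_addSubgroup_dvd_card)
      rcases Nat.eq_zero_or_pos j with rfl | hj0
      · rw [pow_zero] at hj
        exact absurd hj (Finite.one_lt_card (α := X)).ne'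
      · rw [hj]; exact dvd_pow_self r hj0.ne'
    obtain ⟨x, hx, hx0⟩ := hP.exists_fixed_point_of_prime_dvd_card_of_fixed_point X hd
      (a := (0 : X)) (fun g => Subtype.ext (smul_zero (g : G)))
    have hmem : (x : W) ∈ U ⊓ X :=
      AddSubgroup.mem_inf.2 ⟨fun g => congrArg Subtype.val (hx g), x.2⟩
    rw [hbot, AddSubgroup.mem_bot] at hmem
    exact hx0 (Subtype.ext hmem.symm)
  rw [hXbot, sup_bot_eq] at htop
  refine (Subgroup.eq_bot_iff_forall _).2 fun g hg => FaithfulSMul.eq_of_smul_eq_smul (α := W)
    fun w => ?_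
  rw [one_smul]
  exact (show w ∈ U from htop ▸ AddSubgroup.mem_top w) ⟨g, hg⟩

/-- A normal subgroup of a completely reducible group with a unique Sylow `r`-subgroup has order
prime to `r`. -/
theorem IsCR.card_dvd_of_sylow {G W : Type u} [Group G] [Finite G] [AddCommGroup W] [Finite W]
    [DistribMulAction G W] [FaithfulSMul G W] (hcr : IsCR G W) {r k : ℕ} [hr : Fact r.Prime]
    (hW : Nat.card W = r ^ k) (Y : Subgroup G) [Y.Normal] {a j : ℕ}
    (hY : Nat.card Y ∣ r ^ a * j) (hj : ∀ d ∈ j.divisors, d % r = 1 → d = 1) (hj0 : j ≠ 0) :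
    Nat.card Y ∣ j := by
  classical
  obtain ⟨P⟩ : Nonempty (Sylow r Y) := inferInstance
  have hidx : (P : Subgroup Y).index ∣ j := by
    refine Nat.Coprime.dvd_of_dvd_mul_left ?_ (((P : Subgroup Y).index_dvd_card).trans hY)
    exact (Nat.Coprime.pow_left a ((hr.out.coprime_iff_not_dvd).2 P.not_dvd_index)).symm
  have hn : Nat.card (Sylow r Y) = 1 := by
    refine hj _ (Nat.mem_divisors.2 ⟨(P.card_dvd_index).trans hidx, hj0⟩) ?_
    have h := card_sylow_modEq_one r Y
    rwa [Nat.ModEq, Nat.one_mod_eq_one.2 hr.out.ne_one] at h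
  haveI : Subsingleton (Sylow r Y) := (Nat.card_eq_one_iff_unique.1 hn).1
  haveI : (P : Subgroup Y).Characteristic := P.characteristic_of_normal inferInstance
  haveI : ((P : Subgroup Y).map Y.subtype).Normal := ConjAct.normal_of_characteristic_of_normal
  have hbot := hcr.normal_pGroup_eq_bot hW ((P : Subgroup Y).map Y.subtype) (P.2.map _)
  rw [Subgroup.map_eq_bot_iff_of_injective _ Y.subtype_injective] at hbot
  rwa [hbot, Subgroup.index_bot] at hidx

end CfsgLib.Char.OddBase
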