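import Cfsg.Agent.Lib.Char.OddBase.Field
import Cfsg.Agent.Lib.Char.OddBase.Small
import Cfsg.Agent.Lib.FT.NoMinSimple

/-!
# The normal series `N ≤ D ≤ C(N)` of a primitive group and the associated field
-/

set_option autoImplicit false
set_option linter.unusedSectionVars false
set_option linter.style.haveILetI false

namespace CfsgLib.Char.OddBase

open scoped commutatorElement

universe u

variable {A V : Type u} [Group A] [Finite A] [AddCommGroup V] [Finite V] [DistribMulAction A V]
  [FaithfulSMul A V]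

/-- A maximal abelian normal subgroup `N` and a normal `D ≤ C(N)`, abelian modulo `N`, whose
centralizer in `C(N)` is contained in `N`. -/
theorem exists_series [hs : Group.IsSolvable A] :
    ∃ N D : Subgroup A, N.Normal ∧ D.Normal ∧ (∀ x ∈ N, ∀ y ∈ N, x * y = y * x) ∧
      (∀ R : Subgroup A, R.Normal → (∀ x ∈ R, ∀ y ∈ R, x * y = y * x) → N ≤ R → R = N) ∧
      N ≤ D ∧ D ≤ Subgroup.centralizer (N : Set A) ∧ ⁅D, D⁆ ≤ N ∧
      Subgroup.centralizer (N : Set A) ⊓ Subgroup.centralizer (D : Set A) ≤ N := by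
  classical
  obtain ⟨N, ⟨hN, hab⟩, hmax⟩ := (Set.toFinite {R : Subgroup A | R.Normal ∧
    ∀ x ∈ R, ∀ y ∈ R, x * y = y * x}).exists_maximal
      ⟨⊥, inferInstance, fun x hx y hy => by rw [Subgroup.mem_bot.1 hx, Subgroup.mem_bot.1 hy]⟩
  have hmax' : ∀ R : Subgroup A, R.Normal → (∀ x ∈ R, ∀ y ∈ R, x * y = y * x) → N ≤ R → R = N :=
    fun R hR hRab hle => le_antisymm (hmax ⟨hR, hRab⟩ hle) hle
  haveI := hN
  set C := Subgroup.centralizer (N : Set A) with hCdef
  have hNC : N ≤ C := fun x hx => Subgroup.mem_centralizer_iff.2 fun y hy => hab y hy x hx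
  haveI hCn : C.Normal := Subgroup.normal_centralizer
  obtain ⟨D, ⟨hD, hND, hDC, hDD⟩, hDmax⟩ := (Set.toFinite {R : Subgroup A | R.Normal ∧ N ≤ R ∧
    R ≤ C ∧ ⁅R, R⁆ ≤ N}).exists_maximal ⟨N, hN, le_rfl, hNC, Subgroup.commutator_le_self N⟩
  haveI := hD
  refine ⟨N, D, hN, hD, hab, hmax', hND, hDC, hDD, ?_⟩
  set X := C ⊓ Subgroup.centralizer (D : Set A) with hX
  haveI : X.Normal := Subgroup.normal_inf_normal C (Subgroup.centralizer (D : Set A))
  by_contra hXN
  let E : ℕ → Subgroup A := fun k => Nat.rec X (fun _ K => ⁅K, K⁆) k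
  have hEn : ∀ k, (E k).Normal := by
    intro k
    induction k with
    | zero => exact inferInstanceAs X.Normal
    | succ k ih => exact @Subgroup.commutator_normal _ _ _ _ ih ih
  have hEd : ∀ k, E k ≤ derivedSeries A k := by
    intro k
    induction k with
    | zero => simp [derivedSeries]
    | succ k ih => exact Subgroup.commutator_mono ih ih
  have hEX : ∀ k, E k ≤ X := by
    intro k
    induction k with
    | zero => exact le_refl _
    | succ k ih => exact le_trans (Subgroup.commutator_le_self (E k)) ih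
  obtain ⟨n, hn0⟩ := hs
  have hex : ∃ k, E k ≤ N := ⟨n, (hEd n).trans (hn0.le.trans bot_le)⟩
  have hk0 : Nat.find hex ≠ 0 := fun h => hXN (by have := Nat.find_spec hex; rwa [h] at this)
  obtain ⟨k, hk⟩ := Nat.exists_eq_succ_of_ne_zero hk0
  have hkN : ⁅E k, E k⁆ ≤ N := by have := Nat.find_spec hex; rwa [hk] at this
  have hknot : ¬ E k ≤ N := Nat.find_min hex (by omega)
  haveI := hEn k
  have hEC : E k ≤ C := (hEX k).trans inf_le_left
  have hED : E k ≤ Subgroup.centralizer (D : Set A) := (hEX k).trans inf_le_right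
  rcases Classical.em (E k ≤ D) with hEsub | hEsub
  · have hZ : (D ⊓ Subgroup.centralizer (D : Set A)) = N := by
      refine hmax' _ (Subgroup.normal_inf_normal _ _) (fun x hx y hy =>
        Subgroup.mem_centralizer_iff.1 hy.2 x hx.1) fun x hx => ⟨hND hx, ?_⟩
      exact Subgroup.mem_centralizer_iff.2 fun d hd =>
        (Subgroup.mem_centralizer_iff.1 (hDC hd) x hx).symm
    exact hknot ((le_inf hEsub hED).trans hZ.le)
  · have hle : D ⊔ E k ≤ D := by
      refine hDmax ⟨@Subgroup.sup_normal _ _ D (E k) hD (hEn k), hND.trans le_sup_left,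
        sup_le hDC hEC, Subgroup.commutator_le.2 fun a ha b hb => ?_⟩ le_sup_left
      obtain ⟨d, hd, e, he, rfl⟩ := (Subgroup.mem_sup_of_normal_right (ht := hEn k)).1 ha
      obtain ⟨d', hd', e', he', rfl⟩ := (Subgroup.mem_sup_of_normal_right (ht := hEn k)).1 hb
      have c1 : Commute e d' := (Subgroup.mem_centralizer_iff.1 (hED he) d' hd').symm
      have c2 : Commute e' d := (Subgroup.mem_centralizer_iff.1 (hED he') d hd).symm
      have c3 : Commute e d := (Subgroup.mem_centralizer_iff.1 (hED he) d hd).symm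
      have c4 : Commute e' d' := (Subgroup.mem_centralizer_iff.1 (hED he') d' hd').symm
      have c5 : Commute (e * e') (d⁻¹) := (c3.mul_left c2).inv_right
      have c6 : Commute (e * e' * e⁻¹) (d'⁻¹) := ((c1.mul_left c4).mul_left c1.inv_left).inv_right
      have c7 : Commute (e * e' * e⁻¹ * e'⁻¹) (d'⁻¹) := (((c1.mul_left c4).mul_left c1.inv_left).mul_left c4.inv_left).inv_right
      have h1 : ⁅d * e, d' * e'⁆ = ⁅d, d'⁆ * ⁅e, e'⁆ := by
        simp only [commutatorElement_def]
        calc d * e * (d' * e') * (d * e)⁻¹ * (d' * e')⁻¹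
            = d * (e * d') * e' * e⁻¹ * d⁻¹ * e'⁻¹ * d'⁻¹ := by group
          _ = d * d' * (e * e' * (e⁻¹ * d⁻¹)) * e'⁻¹ * d'⁻¹ := by rw [c1.eq]; group
          _ = d * d' * ((e * e') * d⁻¹) * e⁻¹ * e'⁻¹ * d'⁻¹ := by
              rw [(c3.inv_left.inv_right).eq]; group
          _ = d * d' * d⁻¹ * (e * e' * e⁻¹ * e'⁻¹ * d'⁻¹) := by rw [c5.eq]; group
          _ = d * d' * d⁻¹ * d'⁻¹ * (e * e' * e⁻¹ * e'⁻¹) := by rw [c7.eq]; group
      rw [h1]
      exact mul_mem (hDD (Subgroup.commutator_mem_commutator hd hd'))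
        (hkN (Subgroup.commutator_mem_commutator he he'))
    exact hEsub (le_sup_right.trans hle)

/-- Elements centralising `N` commute with the ring it generates. -/
theorem commute_of_centralizes {N : Subgroup A} {c : A} (hc : c ∈ Subgroup.centralizer (N : Set A))
    {z : AddMonoid.End V} (hz : z ∈ gen (V := V) N) : toEnd c * z = z * toEnd c := by
  induction hz using Subring.closure_induction with
  | mem x hx =>
    obtain ⟨n, hn, rfl⟩ := hx
    rw [← map_mul, ← map_mul, Subgroup.mem_centralizer_iff.1 hc n hn]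
  | zero => rw [mul_zero, zero_mul]
  | one => rw [mul_one, one_mul]
  | add x y _ _ hx hy => rw [mul_add, add_mul, hx, hy]
  | neg x _ hx => rw [mul_neg, neg_mul, hx]
  | mul x y _ _ hx hy => rw [← mul_assoc, hx, mul_assoc, hy, mul_assoc]

/-- The group acts on the generated field through at most `m` automorphisms, `|K| = p ^ m`. -/
theorem index_centralizer_le (hirr : IsIrr A V) (hprim : IsEmpty (System A V)) (N : Subgroup A)
    [N.Normal] (hab : ∀ x ∈ N, ∀ y ∈ N, x * y = y * x) :
    ∃ p m : ℕ, p.Prime ∧ Nat.card (gen (V := V) N) = p ^ m ∧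
      (Subgroup.centralizer (N : Set A)).index ≤ m := by
  classical
  obtain ⟨p, hp, hV⟩ := hirr.exists_prime
  haveI := Fact.mk hp
  set K := gen (V := V) N
  letI : Field K := (gen_isField hirr hprim N hab).toField
  haveI : CharP K p := by
    refine (CharP.charP_iff_prime_eq_zero hp).2 (Subtype.ext ?_)
    have h : (p : AddMonoid.End V) = 0 := AddMonoidHom.ext fun v =>
      (AddMonoid.End.natCast_apply p v).trans (hV v)
    simpa using h
  letI : Algebra (ZMod p) K := ZMod.algebra K p
  have hQ : Nat.card K = p ^ Module.finrank (ZMod p) K := by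
    have h : Nat.card K = Nat.card (ZMod p) ^ Module.finrank (ZMod p) K :=
      Module.natCard_eq_pow_finrank
    rw [h, Nat.card_zmod]
  refine ⟨p, Module.finrank (ZMod p) K, hp, hQ, ?_⟩
  have hcm : ∀ (a b : A) (x : AddMonoid.End V),
      toEnd a * (toEnd b * x * toEnd b⁻¹) * toEnd a⁻¹ = toEnd (a * b) * x * toEnd (a * b)⁻¹ := by
    intro a b x
    rw [mul_inv_rev, map_mul, map_mul]
    simp only [mul_assoc]
  have hinv : ∀ (a : A) (x : AddMonoid.End V),
      toEnd a⁻¹ * (toEnd a * x * toEnd a⁻¹) * toEnd a⁻¹⁻¹ = x := by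
    intro a x
    rw [hcm, inv_mul_cancel, inv_one, map_one, one_mul, mul_one]
  let cj : A → (K ≃+* K) := fun a =>
    { toFun := fun z => ⟨toEnd a * z.1 * toEnd a⁻¹, conj_mem_gen a z.2⟩
      invFun := fun z => ⟨toEnd a⁻¹ * z.1 * toEnd a⁻¹⁻¹, conj_mem_gen a⁻¹ z.2⟩
      left_inv := fun z => Subtype.ext (hinv a z.1)
      right_inv := fun z => Subtype.ext (by
        show toEnd a * (toEnd a⁻¹ * z.1 * toEnd a⁻¹⁻¹) * toEnd a⁻¹ = z.1
        rw [hcm, mul_inv_cancel, inv_one, map_one, one_mul, mul_one])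
      map_mul' := fun x y => Subtype.ext (by
        show toEnd a * (x.1 * y.1) * toEnd a⁻¹ =
          toEnd a * x.1 * toEnd a⁻¹ * (toEnd a * y.1 * toEnd a⁻¹)
        rw [show toEnd a * x.1 * toEnd a⁻¹ * (toEnd a * y.1 * toEnd a⁻¹) =
          toEnd a * x.1 * (toEnd a⁻¹ * toEnd a) * y.1 * toEnd a⁻¹ by simp only [mul_assoc],
          ← map_mul, inv_mul_cancel, map_one]
        simp only [mul_assoc, one_mul])
      map_add' := fun x y => Subtype.ext (by
        show toEnd a * (x.1 + y.1) * toEnd a⁻¹ = _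
        rw [mul_add, add_mul]
        rfl) }
  let Γ : A →* (K ≃+* K) :=
    { toFun := cj
      map_one' := RingEquiv.ext fun z => Subtype.ext (by
        show toEnd (1 : A) * z.1 * toEnd (1 : A)⁻¹ = z.1
        rw [inv_one, map_one, one_mul, mul_one])
      map_mul' := fun a b => RingEquiv.ext fun z => Subtype.ext (hcm a b z.1).symm }
  have hker : Γ.ker = Subgroup.centralizer (N : Set A) := by
    ext a
    rw [MonoidHom.mem_ker]
    constructor
    · intro h
      refine Subgroup.mem_centralizer_iff.2 fun n hn => ?_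
      have h1 := congrArg Subtype.val (RingEquiv.congr_fun h (⟨toEnd n, toEnd_mem_gen hn⟩ : K))
      have h2 : toEnd a * toEnd n * toEnd a⁻¹ = (toEnd n : AddMonoid.End V) := h1
      rw [← map_mul, ← map_mul] at h2
      exact (mul_inv_eq_iff_eq_mul.1 (toEnd_injective h2)).symm
    · intro h
      refine RingEquiv.ext fun z => Subtype.ext ?_
      show toEnd a * z.1 * toEnd a⁻¹ = z.1
      rw [commute_of_centralizes h z.2, mul_assoc, ← map_mul, mul_inv_cancel, map_one, mul_one]
  haveI : Finite (K ≃+* K) :=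
    Finite.of_injective (fun f : K ≃+* K => (⇑f : K → K)) DFunLike.coe_injective
  rw [← hker, Subgroup.index_ker]
  refine (Nat.card_le_card_of_injective _ Subtype.val_injective).trans ?_
  refine (Nat.card_le_card_of_injective
    (fun f : K ≃+* K => (AlgEquiv.ofRingEquiv (f := f) (R := ZMod p) fun x => ?_ : K ≃ₐ[ZMod p] K))
    fun f g e => RingEquiv.ext fun z => AlgEquiv.congr_fun e z).trans ?_
  · have h := RingHom.congr_fun (Subsingleton.elim
      ((f : K →+* K).comp (algebraMap (ZMod p) K)) (algebraMap (ZMod p) K)) x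
    exact h
  · haveI : Finite K := Subtype.finite
    haveI : FiniteDimensional (ZMod p) K := Module.Finite.of_finite
    exact (IsGalois.card_aut_eq_finrank (ZMod p) K).le

/-- `|N|` divides `|K| - 1`. -/
theorem card_dvd_units (hirr : IsIrr A V) (hprim : IsEmpty (System A V)) (N : Subgroup A) [N.Normal]
    (hab : ∀ x ∈ N, ∀ y ∈ N, x * y = y * x) :
    Nat.card N ∣ Nat.card (gen (V := V) N) - 1 ∧ IsCyclic N := by
  classical
  set K := gen (V := V) N
  letI : Field K := (gen_isField hirr hprim N hab).toField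
  haveI : Finite K := Subtype.finite
  let ψ0 : N →* K :=
    { toFun := fun n => ⟨toEnd (n : A), toEnd_mem_gen n.2⟩
      map_one' := Subtype.ext (map_one toEnd)
      map_mul' := fun a b => Subtype.ext (map_mul toEnd (a : A) b) }
  have hinj : Function.Injective ψ0 := fun a b h =>
    Subtype.ext (toEnd_injective (congrArg Subtype.val h))
  refine ⟨?_, isCyclic_of_subgroup_isDomain ψ0 hinj⟩
  have h := Subgroup.card_dvd_of_injective ψ0.toHomUnits fun a b e => hinj (congrArg Units.val e)
  rwa [Nat.card_units] at h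

/-- The small cases of the bound on the group induced on `D/N`. -/
theorem small_bounds {G W : Type u} [Group G] [Finite G] [AddCommGroup W] [Finite W]
    [DistribMulAction G W] [FaithfulSMul G W] (hcr : IsCR G W) (hcyc : ¬ IsAddCyclic W)
    (Y : Subgroup G) [Y.Normal] (hY : Odd (Nat.card Y)) {s : ℕ} (hW : Nat.card W = s * s)
    (h13 : Nat.card W = 81 → ∀ y ∈ Y, orderOf y ≠ 13) :
    (s = 3 → Nat.card Y ≤ 1) ∧ (s = 5 → Nat.card Y ≤ 3) ∧ (s = 7 → Nat.card Y ≤ 9) ∧
      (s = 9 → Nat.card Y ≤ 5) := by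
  classical
  have hel : ∀ r k : ℕ, r.Prime → Nat.card W = r ^ k → ∀ w : W, r • w = 0 := by
    intro r k hr hk
    haveI := Fact.mk hr
    let U : AddSubgroup W := (nsmulAddMonoidHom (α := W) r).ker
    obtain ⟨X, -, hbot, htop⟩ := hcr U fun a w hw => by
      rw [AddMonoidHom.mem_ker, nsmulAddMonoidHom_apply] at hw ⊢
      rw [show r • a • w = a • (r • w) from (_root_.map_nsmul (DistribSMul.toAddMonoidHom W a) r w).symm,
        hw, smul_zero]
    have hX : X = ⊥ := by
      by_contra hne
      haveI : Nontrivial X := (AddSubgroup.nontrivial_iff_ne_bot X).2 hne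
      have hd : r ∣ Nat.card X := by
        obtain ⟨j, -, hj⟩ := (Nat.dvd_prime_pow hr).1 (hk ▸ X.card_addSubgroup_dvd_card)
        rcases Nat.eq_zero_or_pos j with rfl | hj0
        · rw [pow_zero] at hj
          exact absurd hj (Finite.one_lt_card (α := X)).ne'
        · rw [hj]; exact dvd_pow_self r hj0.ne'
      obtain ⟨x, hx⟩ := exists_prime_addOrderOf_dvd_card' r hd
      rw [← AddSubgroup.addOrderOf_coe] at hx
      have hmem : (x : W) ∈ U ⊓ X := AddSubgroup.mem_inf.2 ⟨by
        rw [AddMonoidHom.mem_ker, nsmulAddMonoidHom_apply, ← hx]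
        exact addOrderOf_nsmul_eq_zero _, x.2⟩
      rw [hbot, AddSubgroup.mem_bot] at hmem
      rw [hmem, addOrderOf_zero] at hx
      exact hr.ne_one hx.symm
    rw [hX, sup_bot_eq] at htop
    intro w
    have : w ∈ U := htop ▸ AddSubgroup.mem_top w
    exact this
  let Θ : G →* (AddMonoid.End W)ˣ := (DistribMulAction.toAddMonoidEnd G W).toHomUnits
  have hΘ : Function.Injective Θ := fun a b h => FaithfulSMul.eq_of_smul_eq_smul (α := W) fun w =>
    DFunLike.congr_fun (congrArg Units.val h) w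
  have hdvd : ∀ r k N : ℕ, ∀ hr : Fact r.Prime, Nat.card W = r ^ k →
      Nat.card (GL (Fin k) (ZMod r)) = N → Nat.card Y ∣ N := by
    intro r k N hr hk hN
    rw [← hN, ← card_units_end (hel r k hr.out hk) hk]
    exact Y.card_subgroup_dvd_card.trans (Subgroup.card_dvd_of_injective Θ hΘ)
  have hgl : ∀ r k : ℕ, ∀ hr : Fact r.Prime, Nat.card (GL (Fin k) (ZMod r)) =
      ∏ i : Fin k, (r ^ k - r ^ (i : ℕ)) := by
    intro r k hr
    rw [Matrix.card_GL_field, ZMod.card]
  have hodd : ∀ M j : ℕ, Nat.card Y ∣ 2 ^ M * j → Nat.card Y ∣ j := fun M j h =>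
    (Nat.Coprime.pow_right M (Nat.coprime_comm.1 ((Nat.Prime.coprime_iff_not_dvd Nat.prime_two).2
      hY.not_two_dvd_nat))).dvd_of_dvd_mul_left h
  refine ⟨fun hs => ?_, fun hs => ?_, fun hs => ?_, fun hs => ?_⟩ <;> subst hs
  · haveI : Fact (Nat.Prime 3) := ⟨Nat.prime_three⟩
    have h1 := hodd 4 3 (hdvd 3 2 48 inferInstance (by rw [hW]; rfl)
      (by rw [hgl 3 2 inferInstance]; rfl))
    have h2 := hcr.card_dvd_of_sylow (r := 3) (k := 2) (by rw [hW]; rfl) Y (a := 1) (j := 1)
      (by simpa using h1) (by decide) one_ne_zero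
    exact Nat.le_of_dvd one_pos h2
  · haveI : Fact (Nat.Prime 5) := ⟨by norm_num⟩
    have h1 := hodd 5 15 (hdvd 5 2 480 inferInstance (by rw [hW]; rfl)
      (by rw [hgl 5 2 inferInstance]; rfl))
    have h2 := hcr.card_dvd_of_sylow (r := 5) (k := 2) (by rw [hW]; rfl) Y (a := 1) (j := 3)
      (by simpa using h1) (by decide) (by norm_num)
    exact Nat.le_of_dvd (by norm_num) h2
  · haveI : Fact (Nat.Prime 7) := ⟨by norm_num⟩
    have h1 := hodd 5 63 (hdvd 7 2 2016 inferInstance (by rw [hW]; rfl)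
      (by rw [hgl 7 2 inferInstance]; rfl))
    have h2 := hcr.card_dvd_of_sylow (r := 7) (k := 2) (by rw [hW]; rfl) Y (a := 1) (j := 9)
      (by simpa using h1) (by decide) (by norm_num)
    exact Nat.le_of_dvd (by norm_num) h2
  · haveI : Fact (Nat.Prime 3) := ⟨Nat.prime_three⟩
    have h1 := hodd 9 47385 (hdvd 3 4 24261120 inferInstance (by rw [hW]; rfl)
      (by rw [hgl 3 4 inferInstance]; rfl))
    have h13' : ¬ 13 ∣ Nat.card Y := by
      intro hd
      haveI : Fact (Nat.Prime 13) := ⟨by norm_num⟩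
      obtain ⟨y, hy⟩ := exists_prime_orderOf_dvd_card' 13 hd
      exact h13 (by rw [hW]) y y.2 (by rw [Subgroup.orderOf_coe]; exact hy)
    have h1' : Nat.card Y ∣ 3 ^ 6 * 5 := by
      refine (Nat.Coprime.dvd_of_dvd_mul_right (k := Nat.card Y) (n := 13) ?_ ?_)
      · exact Nat.coprime_comm.1 ((Nat.Prime.coprime_iff_not_dvd (by norm_num)).2 h13')
      · simpa using h1
    have h2 := hcr.card_dvd_of_sylow (r := 3) (k := 4) (by rw [hW]; rfl) Y (a := 6) (j := 5)
      h1' (by decide) (by norm_num)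
    exact Nat.le_of_dvd (by norm_num) h2

end CfsgLib.Char.OddBase
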