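import Cfsg.Agent.Lib.Char.OddBase.Primitive

/-!
# Two vectors with trivial common stabiliser for completely reducible groups of odd order
-/

set_option autoImplicit false
set_option linter.unusedSectionVars false
set_option linter.style.haveILetI false

namespace CfsgLib.Char.OddBase

universe u v

/-- Completely reducibility passes to invariant subgroups. -/
theorem IsCR.restrict {A V : Type u} [Group A] [AddCommGroup V] [DistribMulAction A V]
    (hcr : IsCR A V) (U : AddSubgroup V) (hU : ∀ a : A, ∀ v ∈ U, a • v ∈ U) :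
    IsCR (restrictUnits U hU).range U := by
  intro U' hU'
  obtain ⟨X, hX, hbot, htop⟩ := hcr (U'.map U.subtype) (by
    rintro a _ ⟨u, hu, rfl⟩
    exact ⟨_, hU' ⟨restrictUnits U hU a, a, rfl⟩ u hu, rfl⟩)
  refine ⟨X.comap U.subtype, ?_, ?_, ?_⟩
  · rintro ⟨_, a, rfl⟩ w hw
    exact hX a (w : V) hw
  · refine (AddSubgroup.eq_bot_iff_forall _).2 fun w hw => ?_
    obtain ⟨hw1, hw2⟩ := AddSubgroup.mem_inf.1 hw
    have : (w : V) ∈ U'.map U.subtype ⊓ X := AddSubgroup.mem_inf.2 ⟨⟨w, hw1, rfl⟩, hw2⟩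
    rw [hbot, AddSubgroup.mem_bot] at this
    exact Subtype.ext this
  · refine eq_top_iff.2 fun w _ => ?_
    obtain ⟨_, ⟨u', hu', rfl⟩, x, hx, e⟩ :=
      AddSubgroup.mem_sup.1 (htop ▸ AddSubgroup.mem_top (w : V))
    have hxU : x ∈ U := by
      have : x = (w : V) - U.subtype u' := by rw [← e, add_sub_cancel_left]
      rw [this]
      exact sub_mem w.2 u'.2
    exact AddSubgroup.mem_sup.2 ⟨u', hu', ⟨x, hxU⟩, hx, Subtype.ext e⟩

/-- Every completely reducible group of odd order is good. -/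
theorem linBelow_all : ∀ n : ℕ, LinBelow.{u} n := by
  intro n
  induction n with
  | zero =>
    intro A V _ _ _ _ _ _ _ _ hle
    exact absurd hle (not_le.2 Nat.card_pos)
  | succ n ih =>
    intro A V _ _ _ _ _ _ hA hcr hle
    classical
    rcases subsingleton_or_nontrivial V with hV | hV
    · exact good_of_subsingleton
    by_cases hirr : IsIrr A V
    · rcases isEmpty_or_nonempty (System A V) with hs | ⟨⟨s⟩⟩
      · exact good_primitive hA hirr hs ih hle
      · exact good_system s hA hirr ih hle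
    · obtain ⟨U, hU, hU0, hU1⟩ : ∃ U : AddSubgroup V, (∀ a : A, ∀ v ∈ U, a • v ∈ U) ∧ U ≠ ⊥ ∧ U ≠ ⊤ := by
        by_contra hc
        push Not at hc
        exact hirr ⟨hV, fun U hU => or_iff_not_imp_left.2 fun h0 => hc U hU h0⟩
      obtain ⟨W, hW, hbot, htop⟩ := hcr U hU
      have hW0 : W ≠ ⊥ := fun e => hU1 (by rw [e, sup_bot_eq] at htop; exact htop)
      have hW1 : W ≠ ⊤ := fun e => hU0 (by rw [e, inf_top_eq] at hbot; exact hbot)
      haveI := (AddSubgroup.nontrivial_iff_ne_bot U).2 hU0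
      haveI := (AddSubgroup.nontrivial_iff_ne_bot W).2 hW0
      have hlt : ∀ S : AddSubgroup V, S ≠ ⊤ → Nat.card S ≤ n := by
        intro S hS
        have h1 : Nat.card S < Nat.card V := by
          refine lt_of_le_of_ne (Nat.card_le_card_of_injective _ Subtype.val_injective) fun e => ?_
          exact hS (AddSubgroup.eq_top_of_card_eq _ e)
        omega
      exact good_split U W hU hW hbot htop
        (ih _ _ (odd_card_of_dvd hA (Subgroup.card_range_dvd _)) (hcr.restrict U hU) (hlt U hU1))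
        (ih _ _ (odd_card_of_dvd hA (Subgroup.card_range_dvd _)) (hcr.restrict W hW) (hlt W hW1))

/-- An odd order completely reducible group has a base of size two. -/
theorem exists_base_two {A : Type u} {V : Type v} [Group A] [Finite A] [AddCommGroup V] [Finite V]
    [DistribMulAction A V] [FaithfulSMul A V] (hA : Odd (Nat.card A))
    (hcr : ∀ U : AddSubgroup V, (∀ a : A, ∀ v ∈ U, a • v ∈ U) →
      ∃ W : AddSubgroup V, (∀ a : A, ∀ w ∈ W, a • w ∈ W) ∧ U ⊓ W = ⊥ ∧ U ⊔ W = ⊤) :
    ∃ v w : V, ∀ a : A, a • v = v → a • w = w → a = 1 := by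
  let Θ : A →* (AddMonoid.End V)ˣ := (DistribMulAction.toAddMonoidEnd A V).toHomUnits
  have hodd : Odd (Nat.card Θ.range) := by
    have h : Nat.card Θ.range ∣ Nat.card A := Subgroup.card_range_dvd Θ
    obtain ⟨c, hc⟩ := h
    rw [hc] at hA
    exact (Nat.odd_mul.1 hA).1
  have hcr' : IsCR Θ.range V := by
    intro U hU
    obtain ⟨W, hW, h1, h2⟩ := hcr U fun a v hv => hU ⟨Θ a, a, rfl⟩ v hv
    exact ⟨W, fun g w hw => by obtain ⟨_, a, rfl⟩ := g; exact hW a w hw, h1, h2⟩
  obtain ⟨⟨v, w, h⟩, -⟩ := linBelow_all.{v} (Nat.card V) Θ.range V hodd hcr' le_rfl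
  refine ⟨v, w, fun a h1 h2 => ?_⟩
  have h3 := congrArg Subtype.val (h ⟨Θ a, a, rfl⟩ h1 h2)
  refine FaithfulSMul.eq_of_smul_eq_smul (α := V) fun x => ?_
  rw [one_smul]
  exact DFunLike.congr_fun (congrArg Units.val h3) x

end CfsgLib.Char.OddBase
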