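import Cfsg.Agent.Lib.Char.OddBase.Basic

/-!
# Fixed spaces of elements of linear groups
-/

set_option autoImplicit false
set_option linter.unusedSectionVars false
set_option linter.style.haveILetI false

namespace CfsgLib.Char.OddBase

open scoped commutatorElement

universe u

variable {A V : Type u} [Group A] [AddCommGroup V] [DistribMulAction A V]

/-- The vectors fixed by `g`. -/
def fixAdd (g : A) : AddSubgroup V where
  carrier := {v | g • v = v}
  add_mem' := fun {a b} ha hb => by
    show g • (a + b) = a + b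
    rw [smul_add, show g • a = a from ha, show g • b = b from hb]
  zero_mem' := smul_zero g
  neg_mem' := fun {a} ha => by
    show g • (-a) = -a
    rw [smul_neg, show g • a = a from ha]

theorem card_mul_card_le_inf [Finite V] (P Q : AddSubgroup V) :
    Nat.card P * Nat.card Q ≤ Nat.card V * Nat.card ↥(P ⊓ Q) := by
  let φ : P × Q →+ V :=
    { toFun := fun x => (x.1 : V) - x.2
      map_zero' := by simp
      map_add' := fun x y => by simp [add_sub_add_comm] }
  rw [← Nat.card_prod, ← φ.ker.card_mul_index, AddSubgroup.index_ker, mul_comm]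
  refine Nat.mul_le_mul (Nat.card_le_card_of_injective _ Subtype.val_injective) ?_
  refine Nat.card_le_card_of_injective
    (fun x : φ.ker => (⟨(x.1.1 : V), AddSubgroup.mem_inf.2 ⟨x.1.1.2, ?_⟩⟩ : ↥(P ⊓ Q))) ?_
  · have h : (x.1.1 : V) - x.1.2 = 0 := x.2
    rw [sub_eq_zero.1 h]
    exact x.1.2.2
  · rintro ⟨⟨a, b⟩, hab⟩ ⟨⟨c, d⟩, hcd⟩ e
    have e' : (a : V) = c := congrArg (fun t : ↥(P ⊓ Q) => (t : V)) e
    have h1 : (a : V) - b = 0 := hab
    have h2 : (c : V) - d = 0 := hcd
    refine Subtype.ext (Prod.ext (Subtype.ext e') (Subtype.ext ?_))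
    show (b : V) = d
    rw [← sub_eq_zero.1 h1, ← sub_eq_zero.1 h2, e']

/-- The fixed spaces of `g` and a conjugate meet inside that of the commutator. -/
theorem card_fix_sq_le [Finite V] (g x : A) :
    Nat.card (fixAdd (V := V) g) ^ 2 ≤ Nat.card V * Nat.card (fixAdd (V := V) ⁅g, x⁆) := by
  have h := card_mul_card_le_inf (fixAdd (V := V) g) (fixAdd (V := V) (x * g * x⁻¹))
  have hconj : Nat.card (fixAdd (V := V) (x * g * x⁻¹)) = Nat.card (fixAdd (V := V) g) := by
    refine Nat.card_congr ((MulAction.toPerm x).subtypeEquiv fun v => ?_).symm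
    show g • v = v ↔ (x * g * x⁻¹) • x • v = x • v
    rw [mul_smul, mul_smul, inv_smul_smul]
    exact (smul_left_cancel_iff x).symm
  rw [hconj, ← pow_two] at h
  refine h.trans (Nat.mul_le_mul_left _ ?_)
  refine Nat.card_le_card_of_injective (fun v => (⟨(v : V), ?_⟩ : fixAdd (V := V) ⁅g, x⁆))
    fun v w e => Subtype.ext (congrArg (fun t : fixAdd (V := V) ⁅g, x⁆ => (t : V)) e)
  obtain ⟨h1, h2⟩ := AddSubgroup.mem_inf.1 v.2
  have h1' : g • (v : V) = v := h1
  have h2' : (x * g * x⁻¹) • (v : V) = v := h2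
  have h2'' : (x * g⁻¹ * x⁻¹) • (v : V) = v := by
    rw [show x * g⁻¹ * x⁻¹ = (x * g * x⁻¹)⁻¹ by group, inv_smul_eq_iff, h2']
  show ⁅g, x⁆ • (v : V) = v
  rw [commutatorElement_def, show g * x * g⁻¹ * x⁻¹ = g * (x * g⁻¹ * x⁻¹) by group, mul_smul, h2'', h1']

/-- An element with a scalar commutator moving by a fixed-point-free square has a small fixed space. -/
theorem card_fix_cube_le [Finite V] {g y z : A} (hgy : g * y = z * y * g) (hgz : g * z = z * g)
    (hzy : z * y = y * z) (hz : ∀ b : V, z • z • b = b → b = 0) :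
    Nat.card (fixAdd (V := V) g) ^ 3 ≤ Nat.card V := by
  let F := fixAdd (V := V) g
  let ψ : F × (F × F) →+ V :=
    { toFun := fun x => (x.1 : V) + y • (x.2.1 : V) + y • y • (x.2.2 : V)
      map_zero' := by simp
      map_add' := fun x x' => by
        simp only [Prod.fst_add, Prod.snd_add, AddSubgroup.coe_add, smul_add]
        abel }
  have hy1 : ∀ v : F, g • y • (v : V) = z • y • (v : V) := fun v => by
    rw [← mul_smul, hgy, mul_smul, mul_smul, show g • (v : V) = v from v.2]
  have hy2 : ∀ v : F, g • y • y • (v : V) = z • z • y • y • (v : V) := fun v => by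
    rw [← mul_smul g y, hgy, mul_smul, mul_smul, hy1, ← mul_smul y z, ← hzy, mul_smul]
  have hinj : Function.Injective ψ := by
    rw [injective_iff_map_eq_zero]
    rintro ⟨u, v, w⟩ h
    have e1 : (u : V) + y • (v : V) + y • y • (w : V) = 0 := h
    set a := y • (v : V) with ha
    set b := y • y • (w : V) with hb
    have e2 : (u : V) + z • a + z • z • b = 0 := by
      have := congrArg (g • ·) e1
      simp only [smul_add, smul_zero] at this
      rwa [show g • (u : V) = u from u.2, ha, hy1, hb, hy2] at this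
    have hga : g • z • a = z • z • a := by
      rw [← mul_smul g z, hgz, mul_smul, ha, hy1]
    have hgb : g • z • z • b = z • z • z • z • b := by
      rw [← mul_smul g z, hgz, mul_smul, ← mul_smul g z, hgz, mul_smul, hb, hy2]
    have e3 : (u : V) + z • z • a + z • z • z • z • b = 0 := by
      have := congrArg (g • ·) e2
      simp only [smul_add, smul_zero] at this
      rwa [show g • (u : V) = u from u.2, hga, hgb] at this
    have f1 : (z • a - a) + (z • z • b - b) = 0 := by
      have : ((u : V) + z • a + z • z • b) - ((u : V) + a + b) = 0 := by rw [e1, e2, sub_zero]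
      rw [← this]; abel
    have f2 : z • (z • a - a) + z • z • (z • z • b - b) = 0 := by
      simp only [smul_sub]
      have : ((u : V) + z • z • a + z • z • z • z • b) - ((u : V) + z • a + z • z • b) = 0 := by
        rw [e2, e3, sub_zero]
      rw [← this]; abel
    have f3 : (z • a - a) + z • (z • z • b - b) = 0 := by
      rw [← smul_add, smul_eq_zero_iff_eq] at f2
      exact f2
    have hb0 : b = 0 := by
      refine hz b ?_
      have h4 : z • (z • z • b - b) - (z • z • b - b) = 0 := by
        rw [← sub_eq_zero.2 (f3.trans f1.symm)]; abel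
      set c := z • z • b - b with hc
      have h5 : z • c = c := sub_eq_zero.1 h4
      have h6 : c = 0 := hz c (by rw [h5, h5])
      exact sub_eq_zero.1 h6
    have ha0 : a = 0 := by
      rw [hb0] at f1
      simp only [smul_zero, sub_zero, add_zero] at f1
      have h5 : z • a = a := sub_eq_zero.1 f1
      exact hz a (by rw [h5, h5])
    rw [ha0, hb0, add_zero, add_zero] at e1
    refine Prod.ext (Subtype.ext e1) (Prod.ext (Subtype.ext ?_) (Subtype.ext ?_))
    · exact (smul_eq_zero_iff_eq y).1 ha0
    · exact (smul_eq_zero_iff_eq y).1 ((smul_eq_zero_iff_eq y).1 hb0)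
  have h := Nat.card_le_card_of_injective ψ hinj
  rw [Nat.card_prod, Nat.card_prod] at h
  calc Nat.card F ^ 3 = Nat.card F * (Nat.card F * Nat.card F) := by ring
    _ ≤ Nat.card V := h

/-- Few fixed points give two vectors with trivial common stabiliser. -/
theorem exists_pair_of_fix [Finite A] [Finite V] (hA : Odd (Nat.card A))
    (hfix : ∀ g : A, g ≠ 1 → Nat.card (fixAdd (V := V) g) ^ 3 ≤ Nat.card V ^ 2)
    (hcard : Nat.card A ^ 3 < 8 * Nat.card V ^ 2) :
    ∃ v w : V, ∀ a : A, a • v = v → a • w = w → a = 1 := by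
  classical
  have := Fintype.ofFinite A
  set c := (Finset.univ.filter fun g : A => g ≠ 1).sup
    (fun g => Nat.card {x : V × V // g • x = x}) with hc
  have hle : ∀ g : A, g ≠ 1 → Nat.card {x : V × V // g • x = x} ^ 3 ≤ Nat.card V ^ 4 := by
    intro g hg
    have h : Nat.card {x : V × V // g • x = x} ≤ Nat.card (fixAdd (V := V) g) ^ 2 := by
      rw [pow_two, ← Nat.card_prod]
      refine Nat.card_le_card_of_injective
        (fun x => ((⟨x.1.1, congrArg Prod.fst x.2⟩ : fixAdd (V := V) g),
          (⟨x.1.2, congrArg Prod.snd x.2⟩ : fixAdd (V := V) g))) fun x y e => ?_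
      simp only [Prod.mk.injEq] at e
      exact Subtype.ext (Prod.ext (congrArg Subtype.val e.1) (congrArg Subtype.val e.2))
    refine (Nat.pow_le_pow_left h 3).trans ?_
    calc (Nat.card (fixAdd (V := V) g) ^ 2) ^ 3 = (Nat.card (fixAdd (V := V) g) ^ 3) ^ 2 := by ring
      _ ≤ (Nat.card V ^ 2) ^ 2 := Nat.pow_le_pow_left (hfix g hg) 2
      _ = Nat.card V ^ 4 := by ring
  have hc3 : c ^ 3 ≤ Nat.card V ^ 4 := by
    rcases (Finset.univ.filter fun g : A => g ≠ 1).eq_empty_or_nonempty with he | hne
    · rw [hc, he, Finset.sup_empty]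
      exact Nat.zero_le _
    · obtain ⟨g, hg, hge⟩ := Finset.exists_mem_eq_sup _ hne
        (fun g => Nat.card {x : V × V // g • x = x})
      rw [hc, hge]
      exact hle g (Finset.mem_filter.1 hg).2
  have hlt : (Nat.card A - 1) * c < 2 * Nat.card (V × V) := by
    rw [Nat.card_prod]
    by_contra hcon
    push Not at hcon
    have h1 : (2 * (Nat.card V * Nat.card V)) ^ 3 ≤ Nat.card A ^ 3 * Nat.card V ^ 4 := by
      refine (Nat.pow_le_pow_left hcon 3).trans ?_
      rw [mul_pow]
      exact Nat.mul_le_mul (Nat.pow_le_pow_left (Nat.sub_le _ _) 3) hc3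
    have h2 : Nat.card A ^ 3 * Nat.card V ^ 4 < 8 * Nat.card V ^ 2 * Nat.card V ^ 4 :=
      Nat.mul_lt_mul_of_pos_right hcard (pow_pos Nat.card_pos 4)
    have h3 : (2 * (Nat.card V * Nat.card V)) ^ 3 = 8 * Nat.card V ^ 2 * Nat.card V ^ 4 := by ring
    omega
  obtain ⟨⟨v, w⟩, hvw⟩ := exists_free_point (G := A) (X := V × V) hA c
    (fun g hg => Finset.le_sup (f := fun g : A => Nat.card {x : V × V // g • x = x})
      (Finset.mem_filter.2 ⟨Finset.mem_univ g, hg⟩)) hlt
  exact ⟨v, w, fun a h1 h2 => hvw a (Prod.ext h1 h2)⟩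

end CfsgLib.Char.OddBase
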