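import Cfsg.Agent.Lib.Char.OddBase.PermPrimitive

/-!
# Permutation groups of odd order: regular subsets and the bound `3|G| ≤ 3 ^ n`

Gluck's theorem for groups of odd order, given the linear statement in smaller degree.
-/

set_option autoImplicit false
set_option linter.unusedSectionVars false
set_option linter.style.haveILetI false

namespace CfsgLib.Char.OddBase

open scoped Pointwise

universe u

variable {G Ω : Type u} [Group G] [MulAction G Ω]

/-- The action on an invariant subset. -/
def restrictHom (D : Set Ω) (h : ∀ (g : G) (x : Ω), g • x ∈ D ↔ x ∈ D) : G →* Equiv.Perm D where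
  toFun g := (MulAction.toPerm g).subtypePerm fun x => h g x
  map_one' := Equiv.ext fun x => Subtype.ext (one_smul G (x : Ω))
  map_mul' a b := Equiv.ext fun x => Subtype.ext (mul_smul a b (x : Ω))

theorem restrictHom_apply (D : Set Ω) (h : ∀ (g : G) (x : Ω), g • x ∈ D ↔ x ∈ D) (g : G) (x : D) :
    ((restrictHom D h g x : D) : Ω) = g • (x : Ω) := rfl

/-- Fixing a set means fixing it pointwise under the membership test. -/
theorem smul_set_eq_iff {S : Set Ω} {g : G} : g • S = S ↔ ∀ x, g • x ∈ S ↔ x ∈ S := by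
  constructor
  · intro h x
    conv_lhs => rw [← h, Set.smul_mem_smul_set_iff]
  · intro h
    ext x
    rw [Set.mem_smul_set_iff_inv_smul_mem, ← h, smul_inv_smul]

/-- Two pieces: a good action on an invariant set and on its complement. -/
theorem permGood_union [Finite G] [FaithfulSMul G Ω] [Finite Ω] (D : Set Ω)
    (h : ∀ (g : G) (x : Ω), g • x ∈ D ↔ x ∈ D) (hD : D.Nonempty) (hD' : Dᶜ.Nonempty)
    (h1 : PermGood (restrictHom D h).range D)
    (h2 : PermGood (restrictHom (G := G) (Dᶜ) fun g x => not_congr (h g x)).range (Dᶜ : Set Ω)) :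
    PermGood G Ω := by
  classical
  set f1 := restrictHom D h
  set f2 := restrictHom (G := G) (Dᶜ) fun g x => not_congr (h g x)
  obtain ⟨⟨S1, hS1⟩, hb1⟩ := h1
  obtain ⟨⟨S2, hS2⟩, hb2⟩ := h2
  have hker : ∀ g : G, f1 g = 1 → f2 g = 1 → g = 1 := fun g e1 e2 =>
    FaithfulSMul.eq_of_smul_eq_smul (α := Ω) fun x => by
      rw [one_smul]
      by_cases hx : x ∈ D
      · exact congrArg Subtype.val (Equiv.congr_fun e1 ⟨x, hx⟩)
      · exact congrArg Subtype.val (Equiv.congr_fun e2 ⟨x, hx⟩)
  refine ⟨⟨{x | if hx : x ∈ D then (⟨x, hx⟩ : D) ∈ S1 else (⟨x, hx⟩ : (Dᶜ : Set Ω)) ∈ S2},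
    fun g hg => ?_⟩, fun _ => ?_⟩
  · rw [smul_set_eq_iff] at hg
    refine hker g ?_ ?_
    · refine congrArg Subtype.val (hS1 ⟨f1 g, g, rfl⟩ (smul_set_eq_iff.2 fun x => ?_))
      have := hg (x : Ω)
      simp only [Set.mem_setOf_eq, dif_pos x.2, dif_pos ((h g x).2 x.2)] at this
      exact this
    · refine congrArg Subtype.val (hS2 ⟨f2 g, g, rfl⟩ (smul_set_eq_iff.2 fun x => ?_))
      have := hg (x : Ω)
      simp only [Set.mem_setOf_eq, dif_neg (show (x : Ω) ∉ D from x.2),
        dif_neg (show g • (x : Ω) ∉ D from fun e => x.2 ((h g x).1 e))] at this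
      exact this
  · have hle : Nat.card G ≤ Nat.card f1.range * Nat.card f2.range := by
      rw [← Nat.card_prod]
      refine Nat.card_le_card_of_injective (fun g => (f1.rangeRestrict g, f2.rangeRestrict g))
        fun a b hab => ?_
      simp only [Prod.mk.injEq] at hab
      have e1 : f1 a = f1 b := congrArg Subtype.val hab.1
      have e2 : f2 a = f2 b := congrArg Subtype.val hab.2
      exact (inv_mul_eq_one.1 (hker (b⁻¹ * a) (by rw [map_mul, map_inv, e1, inv_mul_cancel])
        (by rw [map_mul, map_inv, e2, inv_mul_cancel]))).symm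
    have e1 := hb1 hD.to_subtype
    have e2 := hb2 hD'.to_subtype
    have hsum : Nat.card D + Nat.card (Dᶜ : Set Ω) = Nat.card Ω := by
      rw [← Nat.card_sum]; exact Nat.card_congr (Equiv.Set.sumCompl D)
    rw [← hsum, pow_add]
    calc 3 * Nat.card G ≤ 3 * (Nat.card f1.range * Nat.card f2.range) := Nat.mul_le_mul_left _ hle
      _ ≤ 3 * Nat.card f1.range * (3 * Nat.card f2.range) := by
          rw [show 3 * Nat.card f1.range * (3 * Nat.card f2.range) =
            3 * (3 * (Nat.card f1.range * Nat.card f2.range)) by ring]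
          omega
      _ ≤ _ := Nat.mul_le_mul e1 e2

/-- Blocks: a good action on the blocks and a good action of a block stabiliser. -/
theorem permGood_blocks [Finite G] [FaithfulSMul G Ω] [Finite Ω] [MulAction.IsPretransitive G Ω]
    (hG : Odd (Nat.card G)) (B : Set Ω) (hB : MulAction.IsBlock G B) (hne : B.Nonempty)
    (h1 : PermGood (MulAction.toPermHom G (MulAction.orbit G B)).range (MulAction.orbit G B))
    (h2 : PermGood (restrictHom (G := MulAction.stabilizer G B) B
      (fun g x => smul_set_eq_iff.1 (MulAction.mem_stabilizer_iff.1 g.2) x)).range B) :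
    PermGood G Ω := by
  classical
  set I := MulAction.orbit G B
  set φ := MulAction.toPermHom G I
  set ρ := restrictHom (G := MulAction.stabilizer G B) B
      (fun g x => smul_set_eq_iff.1 (MulAction.mem_stabilizer_iff.1 g.2) x) with hρ
  obtain ⟨⟨T, hT⟩, hb1⟩ := h1
  obtain ⟨⟨S0, hS0⟩, hb2⟩ := h2
  have hrep : ∀ i : I, ∃ g : G, g • B = (i : Set Ω) := fun i => i.2
  choose gs hgs using hrep
  have hcover : ∀ x : Ω, ∃ (i : I) (y : B), gs i • (y : Ω) = x := by
    intro x
    obtain ⟨b, hb⟩ := hne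
    obtain ⟨t, rfl⟩ := MulAction.exists_smul_eq G b x
    have hmem : t • b ∈ gs ⟨t • B, t, rfl⟩ • B := by rw [hgs]; exact Set.smul_mem_smul_set hb
    obtain ⟨y, hy, e⟩ := hmem
    exact ⟨_, ⟨y, hy⟩, e⟩
  have huniq : ∀ (i j : I) (y z : B), gs i • (y : Ω) = gs j • (z : Ω) → i = j := by
    intro i j y z e
    refine Subtype.ext ?_
    rw [← hgs i, ← hgs j]
    exact hB.smul_eq_smul_of_nonempty ⟨_, Set.smul_mem_smul_set y.2, by
      rw [e]; exact Set.smul_mem_smul_set z.2⟩
  have hmove : ∀ (a : G) (i : I), ∃ h : MulAction.stabilizer G B, a * gs i = gs (a • i) * h := by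
    intro a i
    refine ⟨⟨(gs (a • i))⁻¹ * (a * gs i), ?_⟩, by group⟩
    rw [MulAction.mem_stabilizer_iff, mul_smul, mul_smul, hgs i, inv_smul_eq_iff, hgs]
    rfl
  have hblock : ∀ (a : G) (i : I) (h : MulAction.stabilizer G B) (y : B),
      a * gs i = gs (a • i) * h →
      a • gs i • (y : Ω) = gs (a • i) • ((ρ h y : B) : Ω) := by
    intro a i h y e
    rw [← mul_smul, e, mul_smul]
    rfl
  have hkfix : ∀ a : G, (∀ i : I, a • i = i) →
      (∀ (i : I) (h : MulAction.stabilizer G B), a * gs i = gs (a • i) * h → ρ h = 1) → a = 1 := by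
    intro a hfix hloc
    refine FaithfulSMul.eq_of_smul_eq_smul (α := Ω) fun x => ?_
    obtain ⟨i, y, rfl⟩ := hcover x
    obtain ⟨h, hh⟩ := hmove a i
    rw [hblock a i h y hh, hloc i h hh, hfix i, Equiv.Perm.one_apply, one_smul]
  refine ⟨?_, fun _ => ?_⟩
  · let Si : I → Set B := fun i => if i ∈ T then S0 else S0ᶜ
    refine ⟨{x | ∃ (i : I) (y : B), y ∈ Si i ∧ gs i • (y : Ω) = x}, fun a ha => ?_⟩
    rw [smul_set_eq_iff] at ha
    have hmemS : ∀ (i : I) (y : B),
        (gs i • (y : Ω)) ∈ {x | ∃ (i : I) (y : B), y ∈ Si i ∧ gs i • (y : Ω) = x} ↔ y ∈ Si i := by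
      intro i y
      refine ⟨fun ⟨j, z, hz, e⟩ => ?_, fun hy => ⟨i, y, hy, rfl⟩⟩
      obtain rfl := huniq j i z y e
      obtain rfl : z = y := Subtype.ext (MulAction.injective (gs j) e)
      exact hz
    have hSi : ∀ (i : I) (h : MulAction.stabilizer G B), a * gs i = gs (a • i) * h →
        ∀ y : B, ρ h y ∈ Si (a • i) ↔ y ∈ Si i := by
      intro i h e y
      rw [← hmemS (a • i), ← hblock a i h y e, ha, hmemS]
    obtain ⟨b, hb⟩ := hne
    have htop : ∀ i : I, a • i ∈ T ↔ i ∈ T := by
      intro i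
      by_contra hdiff
      obtain ⟨h, hh⟩ := hmove a i
      have hflip : ∀ y : B, ρ h y ∈ S0 ↔ y ∉ S0 := by
        intro y
        have := hSi i h hh y
        simp only [Si] at this
        by_cases hi : i ∈ T
        · rw [if_pos hi, if_neg (fun e => hdiff (iff_of_true e hi)), Set.mem_compl_iff] at this
          tauto
        · rw [if_neg hi, if_pos (by by_contra e; exact hdiff (iff_of_false e hi)),
            Set.mem_compl_iff] at this
          exact this
      have h1 : (⟨ρ h, h, rfl⟩ : ρ.range) ^ 2 = 1 := hS0 _ (smul_set_eq_iff.2 fun y => by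
        show ((ρ h) ^ 2) y ∈ S0 ↔ y ∈ S0
        rw [pow_two, Equiv.Perm.mul_apply, hflip, hflip, not_not])
      have h2 := congrArg Subtype.val (eq_one_of_sq (odd_card_of_dvd
        (odd_card_subgroup hG (MulAction.stabilizer G B)) (Subgroup.card_range_dvd ρ)) h1)
      have h3 := hflip ⟨b, hb⟩
      rw [show ρ h = 1 from h2, Equiv.Perm.one_apply] at h3
      tauto
    have hfix : ∀ i : I, a • i = i := by
      have := hT ⟨φ a, a, rfl⟩ (smul_set_eq_iff.2 fun i => htop i)
      intro i
      exact Equiv.congr_fun (congrArg Subtype.val this) i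
    refine hkfix a hfix fun i h hh => congrArg Subtype.val (hS0 ⟨ρ h, h, rfl⟩ (smul_set_eq_iff.2 ?_))
    intro y
    have := hSi i h hh y
    rw [hfix i] at this
    simp only [Si] at this
    by_cases hi : i ∈ T
    · rw [if_pos hi] at this; exact this
    · rw [if_neg hi] at this; exact not_iff_not.1 this
  · have := Fintype.ofFinite I
    have hker : Nat.card φ.ker ≤ Nat.card ρ.range ^ Nat.card I := by
      rw [← Nat.card_fun]
      have hst : ∀ (k : φ.ker) (i : I), (k : G) • i = i := fun k i => Equiv.congr_fun k.2 i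
      have hh : ∀ (k : φ.ker) (i : I), (gs i)⁻¹ * k * gs i ∈ MulAction.stabilizer G B := by
        intro k i
        rw [MulAction.mem_stabilizer_iff, mul_smul, mul_smul, hgs, inv_smul_eq_iff, hgs]
        exact congrArg Subtype.val (hst k i)
      refine Nat.card_le_card_of_injective
        (fun (k : φ.ker) (i : I) => ρ.rangeRestrict ⟨_, hh k i⟩) fun k l e => ?_
      refine Subtype.ext (FaithfulSMul.eq_of_smul_eq_smul (α := Ω) fun x => ?_)
      obtain ⟨i, y, rfl⟩ := hcover x
      have e1 : ρ ⟨_, hh k i⟩ y = ρ ⟨_, hh l i⟩ y :=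
        Equiv.congr_fun (congrArg Subtype.val (congrFun e i)) y
      have e2 : ((gs i)⁻¹ * k * gs i) • (y : Ω) = ((gs i)⁻¹ * l * gs i) • (y : Ω) :=
        congrArg Subtype.val e1
      rw [mul_smul, mul_smul, mul_smul, mul_smul] at e2
      exact MulAction.injective _ e2
    have hcard : Nat.card G ≤ Nat.card φ.range * Nat.card ρ.range ^ Nat.card I := by
      rw [← Subgroup.card_mul_index φ.ker, Subgroup.index_ker, mul_comm]
      exact Nat.mul_le_mul_left _ hker
    have e1 := hb1 ⟨⟨B, MulAction.mem_orbit_self B⟩⟩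
    have e2 := Nat.pow_le_pow_left (hb2 hne.to_subtype) (Nat.card I)
    have hn := MulAction.IsBlock.ncard_block_mul_ncard_orbit_eq hB hne
    rw [← Nat.card_coe_set_eq, ← Nat.card_coe_set_eq] at hn
    rw [← hn, pow_mul]
    refine Nat.le_of_mul_le_mul_left ?_ (show 0 < 3 ^ Nat.card I from pow_pos (by norm_num) _)
    calc 3 ^ Nat.card I * (3 * Nat.card G)
        ≤ 3 ^ Nat.card I * (3 * (Nat.card φ.range * Nat.card ρ.range ^ Nat.card I)) :=
          Nat.mul_le_mul_left _ (Nat.mul_le_mul_left _ hcard)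
      _ = (3 * Nat.card φ.range) * (3 * Nat.card ρ.range) ^ Nat.card I := by ring
      _ ≤ 3 ^ Nat.card I * (3 ^ Nat.card B) ^ Nat.card I := Nat.mul_le_mul e1 e2

/-- Gluck's theorem for odd order, with the order bound. -/
theorem permGood_of_linBelow (N : ℕ) (hlin : LinBelow.{u} N) :
    ∀ n : ℕ, n ≤ N → ∀ (G Ω : Type u) [Group G] [Finite G] [MulAction G Ω] [Finite Ω]
      [FaithfulSMul G Ω], Odd (Nat.card G) → Nat.card Ω = n → PermGood G Ω := by
  classical
  intro n
  induction n using Nat.strong_induction_on with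
  | _ n ih =>
  intro hnN G Ω _ _ _ _ _ hG hn
  have hsmall : ∀ (H Δ : Type u) [Group H] [Finite H] [MulAction H Δ] [Finite Δ] [FaithfulSMul H Δ],
      Odd (Nat.card H) → Nat.card Δ < n → PermGood H Δ := fun H Δ _ _ _ _ _ hH hlt =>
    ih _ hlt (hlt.le.trans hnN) H Δ hH rfl
  rcases subsingleton_or_nontrivial Ω with hΩ | hΩ
  · have h1 : ∀ g : G, g = 1 := fun g =>
      FaithfulSMul.eq_of_smul_eq_smul (α := Ω) fun x => Subsingleton.elim _ _
    refine ⟨⟨∅, fun g _ => h1 g⟩, fun hne => ?_⟩
    haveI : Subsingleton G := ⟨fun a b => (h1 a).trans (h1 b).symm⟩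
    rw [Nat.card_of_subsingleton (1 : G), mul_one]
    exact Nat.le_self_pow (Nat.card_pos.ne') 3
  by_cases htr : MulAction.IsPretransitive G Ω
  · haveI := htr
    by_cases hprim : MulAction.IsPreprimitive G Ω
    · refine permGood_primitive hG ?_ hprim
      intro A V _ _ _ _ _ _ hA hcr hle
      exact hlin A V hA hcr (hle.trans (hn.le.trans hnN))
    · obtain ⟨B, hB, hBt⟩ : ∃ B : Set Ω, MulAction.IsBlock G B ∧ ¬ MulAction.IsTrivialBlock B := by
        by_contra hc
        push Not at hc
        exact hprim { isTrivialBlock_of_isBlock := fun {B} hB => hc B hB }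
      rw [MulAction.IsTrivialBlock, not_or, Set.not_subsingleton_iff] at hBt
      have hne := hBt.1.nonempty
      have hBn : Nat.card B < n := by
        rw [← hn, Nat.card_coe_set_eq, ← Set.ncard_univ]
        exact Set.ncard_lt_ncard (Set.ssubset_univ_iff.2 hBt.2)
      have hIn : Nat.card (MulAction.orbit G B) < n := by
        have h := MulAction.IsBlock.ncard_block_mul_ncard_orbit_eq hB hne
        rw [← Nat.card_coe_set_eq (MulAction.orbit G B), hn] at h
        have h2 : 1 < B.ncard := Set.one_lt_ncard_iff_nontrivial.2 hBt.1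
        rw [← h]
        haveI : Nonempty (MulAction.orbit G B) := ⟨⟨B, MulAction.mem_orbit_self B⟩⟩
        calc Nat.card (MulAction.orbit G B) = 1 * Nat.card (MulAction.orbit G B) := (one_mul _).symm
          _ < B.ncard * Nat.card (MulAction.orbit G B) :=
            Nat.mul_lt_mul_of_pos_right h2 Nat.card_pos
      exact permGood_blocks hG B hB hne
        (hsmall _ _ (odd_card_of_dvd hG (Subgroup.card_range_dvd _)) hIn)
        (hsmall _ _ (odd_card_of_dvd (odd_card_subgroup hG _) (Subgroup.card_range_dvd _)) hBn)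
  · obtain ⟨x⟩ := (inferInstance : Nonempty Ω)
    set D := MulAction.orbit G x with hD
    have hinv : ∀ (g : G) (y : Ω), g • y ∈ D ↔ y ∈ D := fun g y => by
      rw [hD, ← MulAction.orbit_eq_iff, ← MulAction.orbit_eq_iff (b := x), MulAction.orbit_smul]
    have hDc : Dᶜ.Nonempty := by
      rw [Set.nonempty_compl]
      intro e
      refine htr ⟨fun a b => ?_⟩
      obtain ⟨s, hs⟩ : a ∈ D := e ▸ Set.mem_univ a
      obtain ⟨t, ht⟩ : b ∈ D := e ▸ Set.mem_univ b
      exact ⟨t * s⁻¹, by rw [← hs, ← ht, mul_smul]; simp⟩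
    have hsum : Nat.card D + Nat.card (Dᶜ : Set Ω) = Nat.card Ω := by
      rw [← Nat.card_sum]; exact Nat.card_congr (Equiv.Set.sumCompl D)
    have hDne : D.Nonempty := MulAction.nonempty_orbit x
    haveI := hDne.to_subtype
    haveI := hDc.to_subtype
    have p1 : 0 < Nat.card D := Nat.card_pos
    have p2 : 0 < Nat.card (Dᶜ : Set Ω) := Nat.card_pos
    exact permGood_union D hinv hDne hDc
      (hsmall _ _ (odd_card_of_dvd hG (Subgroup.card_range_dvd _)) (by omega))
      (hsmall _ _ (odd_card_of_dvd hG (Subgroup.card_range_dvd _)) (by omega))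

end CfsgLib.Char.OddBase
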