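import Cfsg.Agent.Lib.Char.OddBase.Basic

/-!
# Alternating pairings with values in the units of a field
-/

set_option autoImplicit false
set_option linter.unusedSectionVars false
set_option linter.style.haveILetI false

namespace CfsgLib.Char.OddBase

universe u v

variable {M : Type u} [CommGroup M] [Finite M] {K : Type v} [Field K]

instance finite_monoidHom_units : Finite (M →* Kˣ) := by
  classical
  have h : LinearIndependent K (fun f : M →* K => (⇑f : M → K)) := linearIndependent_monoidHom M K
  haveI : Finite (M →* K) := h.finite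
  exact Finite.of_injective (fun f : M →* Kˣ => (Units.coeHom K).comp f) fun f g e =>
    MonoidHom.ext fun x => Units.ext (DFunLike.congr_fun e x)

/-- A finite abelian group has at most as many characters as elements. -/
theorem card_monoidHom_units_le : Nat.card (M →* Kˣ) ≤ Nat.card M := by
  classical
  have := Fintype.ofFinite M
  have := Fintype.ofFinite (M →* Kˣ)
  have h := (linearIndependent_monoidHom M K).comp (fun f : M →* Kˣ => (Units.coeHom K).comp f)
    fun f g e => MonoidHom.ext fun x => Units.ext (DFunLike.congr_fun e x)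
  have := h.fintype_card_le_finrank
  rwa [Module.finrank_pi, ← Nat.card_eq_fintype_card, ← Nat.card_eq_fintype_card] at this

/-- The perpendicular of a subgroup under a pairing. -/
def perp (β : M →* (M →* Kˣ)) (W : Subgroup M) : Subgroup M where
  carrier := {x | ∀ w ∈ W, β x w = 1}
  one_mem' := fun w _ => by simp
  mul_mem' := fun {a b} ha hb w hw => by rw [map_mul, MonoidHom.mul_apply, ha w hw, hb w hw, one_mul]
  inv_mem' := fun {a} ha w hw => by rw [map_inv, MonoidHom.inv_apply, ha w hw, inv_one]

theorem card_le_card_mul_perp (β : M →* (M →* Kˣ)) (W : Subgroup M) :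
    Nat.card M ≤ Nat.card W * Nat.card (perp β W) := by
  let φ : M →* (W →* Kˣ) :=
    { toFun := fun x => (β x).comp W.subtype
      map_one' := by simp
      map_mul' := fun a b => by simp [MonoidHom.mul_comp] }
  have hker : φ.ker = perp β W := by
    ext x
    constructor
    · intro h w hw
      exact DFunLike.congr_fun (MonoidHom.mem_ker.1 h) ⟨w, hw⟩
    · intro h
      exact MonoidHom.mem_ker.2 (MonoidHom.ext fun w => h w w.2)
  rw [← Subgroup.index_mul_card φ.ker, ← hker, Subgroup.index_ker]
  refine Nat.mul_le_mul_right _ ((Nat.card_le_card_of_injective _ Subtype.val_injective).trans ?_)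
  exact card_monoidHom_units_le

theorem skew {β : M →* (M →* Kˣ)} (halt : ∀ x, β x x = 1) (x y : M) : β x y = (β y x)⁻¹ := by
  refine eq_inv_of_mul_eq_one_left ?_
  have h := halt (x * y)
  simp only [map_mul, MonoidHom.mul_apply, halt, one_mul, mul_one] at h
  first
    | exact h
    | exact (mul_comm _ _).trans h

/-- The order of a group with a non-degenerate alternating pairing is a square. -/
theorem exists_sq_of_alternating (β : M →* (M →* Kˣ)) (halt : ∀ x, β x x = 1)
    (hinj : Function.Injective β) : ∃ s : ℕ, Nat.card M = s * s := by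
  classical
  obtain ⟨L, hL, hmax⟩ := (Set.toFinite {W : Subgroup M | ∀ x ∈ W, ∀ y ∈ W, β x y = 1}).exists_maximal
    ⟨⊥, fun x hx y _ => by rw [Subgroup.mem_bot.1 hx]; simp⟩
  have hperp : perp β L = L := by
    refine le_antisymm (fun x hx => ?_) fun x hx w hw => hL x hx w hw
    have hiso : ∀ a ∈ L ⊔ Subgroup.zpowers x, ∀ b ∈ L ⊔ Subgroup.zpowers x, β a b = 1 := by
      intro a ha b hb
      obtain ⟨l, hl, z, hz, rfl⟩ := Subgroup.mem_sup.1 ha
      obtain ⟨l', hl', z', hz', rfl⟩ := Subgroup.mem_sup.1 hb
      obtain ⟨i, rfl⟩ := Subgroup.mem_zpowers_iff.1 hz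
      obtain ⟨j, rfl⟩ := Subgroup.mem_zpowers_iff.1 hz'
      have e1 : β l (x ^ j) = 1 := by rw [map_zpow, skew halt, hx l hl, inv_one, one_zpow]
      have e2 : β (x ^ i) l' = 1 := by rw [map_zpow, MonoidHom.zpow_apply, hx l' hl', one_zpow]
      have e3 : β (x ^ i) (x ^ j) = 1 := by
        rw [map_zpow β x i, MonoidHom.zpow_apply, map_zpow, halt, one_zpow, one_zpow]
      simp only [map_mul, MonoidHom.mul_apply, hL l hl l' hl', e1, e2, e3, one_mul]
    exact hmax hiso le_sup_left (Subgroup.mem_sup_right (Subgroup.mem_zpowers x))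
  have h1 := card_le_card_mul_perp β L
  rw [hperp] at h1
  refine ⟨Nat.card L, le_antisymm h1 ?_⟩
  have h2 : Nat.card L ≤ L.index := by
    have hlift : ∀ x : L, L ≤ (β x).ker := fun x y hy => hL x x.2 y hy
    refine (Nat.card_le_card_of_injective
      (fun x : L => QuotientGroup.lift L (β x) (hlift x)) fun a b e => ?_).trans
      ((card_monoidHom_units_le (M := M ⧸ L) (K := K)).trans (le_of_eq rfl))
    exact Subtype.ext (hinj (MonoidHom.ext fun y => DFunLike.congr_fun e (y : M ⧸ L)))
  rw [← Subgroup.index_mul_card L]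
  exact Nat.mul_le_mul_right _ h2

end CfsgLib.Char.OddBase
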