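import Cfsg.Agent.Lib.Char.OddBase.Basic

/-!
# The numerical inequalities of the primitive case
-/

set_option autoImplicit false

namespace CfsgLib.Char.OddBase

/-- `a ^ 3 ≤ Q ^ 2` for odd `a` with `2 ^ a ≤ Q`. -/
theorem cube_le_sq {a Q : ℕ} (ha : Odd a) (h : 2 ^ a ≤ Q) : a ^ 3 ≤ Q ^ 2 := by
  refine le_trans ?_ (Nat.pow_le_pow_left h 2)
  rw [← pow_mul]
  clear h
  have key : ∀ n : ℕ, 3 ≤ n → n ^ 3 ≤ 2 ^ (n * 2) := by
    intro n hn
    induction n, hn using Nat.le_induction with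
    | base => norm_num
    | succ n hn ih =>
      have h4 : 3 * (n + 1) ≤ 4 * n := by omega
      have h5 := Nat.pow_le_pow_left h4 3
      rw [mul_pow, mul_pow] at h5
      norm_num at h5
      calc (n + 1) ^ 3 ≤ 4 * n ^ 3 := by omega
        _ ≤ 4 * 2 ^ (n * 2) := by omega
        _ = 2 ^ ((n + 1) * 2) := by ring
  obtain ⟨k, rfl⟩ := ha
  rcases Nat.eq_zero_or_pos k with rfl | hk
  · norm_num
  · exact key _ (by omega)

theorem pow_eighteen_lt {s : ℕ} (h : 21 ≤ s) : s ^ 18 < 216 * 4 ^ (2 * s - 5) := by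
  induction s, h using Nat.le_induction with
  | base => norm_num
  | succ n hn ih =>
    have h5 : 21 * (n + 1) ≤ 22 * n := by omega
    have h6 := Nat.pow_le_pow_left h5 18
    rw [mul_pow, mul_pow] at h6
    have h7 : (n + 1) ^ 18 ≤ 16 * n ^ 18 := by norm_num at h6 ⊢; omega
    have h8 : (4 : ℕ) ^ (2 * (n + 1) - 5) = 16 * 4 ^ (2 * n - 5) := by
      rw [show 2 * (n + 1) - 5 = (2 * n - 5) + 2 by omega, pow_add]; ring
    rw [h8]
    omega

/-- The counting inequality of the primitive non-semilinear case. -/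
theorem primitive_count {Q a m p s f : ℕ} (hp : p.Prime) (hQ : Q = p ^ m) (ha : Odd a) (ham : a ≤ m)
    (hs3 : 3 ≤ s) (hso : Odd s) (hdiv : ∀ r : ℕ, r.Prime → r ∣ s → r ∣ Q - 1)
    (hf : 3 * f ≤ (s * s) ^ 2) (hQ2 : 2 ≤ Q)
    (hsmall : (s = 3 → f ≤ 1) ∧ (s = 5 → f ≤ 3) ∧ (s = 7 → f ≤ 9) ∧ (s = 9 → f ≤ 5)) :
    ((Q - 1) * a * (s * s) * f) ^ 3 < 8 * Q ^ (2 * s) := by
  have h2a : 2 ^ a ≤ Q := by
    rw [hQ]
    exact (Nat.pow_le_pow_left hp.two_le a).trans (Nat.pow_le_pow_right hp.pos ham)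
  have ha3 := cube_le_sq ha h2a
  obtain ⟨h3, h5, h7, h9⟩ := hsmall
  have hlow : ∀ r : ℕ, r.Prime → r ∣ s → r + 1 ≤ Q := fun r hr h => by
    have := Nat.le_of_dvd (by omega) (hdiv r hr h)
    omega
  -- the general shape
  have gen : ∀ c : ℕ, s * s * f ≤ c → c ^ 3 < 8 * Q ^ (2 * s - 5) →
      ((Q - 1) * a * (s * s) * f) ^ 3 < 8 * Q ^ (2 * s) := by
    intro c hc hlt
    calc ((Q - 1) * a * (s * s) * f) ^ 3 = (Q - 1) ^ 3 * a ^ 3 * (s * s * f) ^ 3 := by ring
      _ ≤ Q ^ 3 * Q ^ 2 * c ^ 3 :=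
          Nat.mul_le_mul (Nat.mul_le_mul (Nat.pow_le_pow_left (Nat.sub_le _ _) 3) ha3)
            (Nat.pow_le_pow_left hc 3)
      _ < Q ^ 3 * Q ^ 2 * (8 * Q ^ (2 * s - 5)) :=
          Nat.mul_lt_mul_of_pos_left hlt (by positivity)
      _ = 8 * Q ^ (2 * s) := by
          rw [show 2 * s = 5 + (2 * s - 5) by omega, pow_add]
          rw [show 5 + (2 * s - 5) - 5 = 2 * s - 5 by omega]
          ring
  rcases eq_or_ne s 3 with rfl | hne3
  · have hf1 := h3 rfl
    have h3d := hdiv 3 Nat.prime_three (dvd_refl 3)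
    have hQ4 : 4 ≤ Q := hlow 3 Nat.prime_three (dvd_refl 3)
    have key : 9 * a ≤ 2 * Q + 1 := by
      obtain ⟨k, rfl⟩ := ha
      rcases Nat.eq_zero_or_pos k with rfl | hk
      · omega
      · rcases eq_or_lt_of_le (Nat.succ_le_of_lt hk) with hk1 | hk2
        · -- a = 3
          have hk1 : k = 1 := hk1.symm
          subst hk1
          by_contra hcon
          have hp2 : p = 2 := by
            by_contra hpne
            have h27 : 3 ^ 3 ≤ Q := by
              rw [hQ]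
              exact (Nat.pow_le_pow_left (by have := hp.two_le; omega) 3).trans
                (Nat.pow_le_pow_right hp.pos (by omega))
            omega
          subst hp2
          have hm : m = 3 := by
            by_contra hm
            have : 2 ^ 4 ≤ Q := by rw [hQ]; exact Nat.pow_le_pow_right (by norm_num) (by omega)
            omega
          subst hm
          rw [hQ] at h3d
          norm_num at h3d
        · have h5a : 5 ≤ 2 * k + 1 := by omega
          have : 9 * (2 * k + 1) ≤ 2 * 2 ^ (2 * k + 1) := by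
            have : ∀ n, 5 ≤ n → 9 * n ≤ 2 * 2 ^ n := by
              intro n hn
              induction n, hn using Nat.le_induction with
              | base => norm_num
              | succ n hn ih => rw [pow_succ]; omega
            exact this _ h5a
          linarith
    have h1 : (Q - 1) * a * (3 * 3) * f < 2 * Q ^ 2 := by
      calc (Q - 1) * a * (3 * 3) * f ≤ (Q - 1) * a * (3 * 3) * 1 := Nat.mul_le_mul_left _ hf1
        _ = (Q - 1) * (9 * a) := by ring
        _ ≤ (Q - 1) * (2 * Q + 1) := Nat.mul_le_mul_left _ key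
        _ < 2 * Q ^ 2 := by
            obtain ⟨t, rfl⟩ : ∃ t, Q = t + 1 := ⟨Q - 1, by omega⟩
            simp only [Nat.add_sub_cancel]
            nlinarith
    calc ((Q - 1) * a * (3 * 3) * f) ^ 3 < (2 * Q ^ 2) ^ 3 := Nat.pow_lt_pow_left h1 (by norm_num)
      _ = 8 * Q ^ (2 * 3) := by ring
  rcases eq_or_ne s 5 with rfl | hne5
  · have h5d := hdiv 5 (by norm_num) (dvd_refl 5)
    have hQ9 : 9 ≤ Q := by
      by_contra hcon
      have h6 := hlow 5 (by norm_num) (dvd_refl 5)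
      have h6' : Q = 6 := by omega
      have h2d : 2 ∣ p ^ m := by rw [← hQ, h6']; norm_num
      have h3d : 3 ∣ p ^ m := by rw [← hQ, h6']; norm_num
      have e2 := (Nat.prime_dvd_prime_iff_eq Nat.prime_two hp).1 (Nat.prime_two.dvd_of_dvd_pow h2d)
      have e3 := (Nat.prime_dvd_prime_iff_eq Nat.prime_three hp).1 (Nat.prime_three.dvd_of_dvd_pow h3d)
      omega
    refine gen 75 (by have := h5 rfl; omega) ?_
    calc (75 : ℕ) ^ 3 < 8 * 9 ^ (2 * 5 - 5) := by norm_num
      _ ≤ 8 * Q ^ (2 * 5 - 5) := Nat.mul_le_mul_left _ (Nat.pow_le_pow_left hQ9 _)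
  rcases eq_or_ne s 7 with rfl | hne7
  · refine gen 441 (by have := h7 rfl; omega) ?_
    calc (441 : ℕ) ^ 3 < 8 * 8 ^ (2 * 7 - 5) := by norm_num
      _ ≤ 8 * Q ^ (2 * 7 - 5) :=
        Nat.mul_le_mul_left _ (Nat.pow_le_pow_left (hlow 7 (by norm_num) (dvd_refl 7)) _)
  rcases eq_or_ne s 9 with rfl | hne9
  · refine gen 405 (by have := h9 rfl; omega) ?_
    calc (405 : ℕ) ^ 3 < 8 * 4 ^ (2 * 9 - 5) := by norm_num
      _ ≤ 8 * Q ^ (2 * 9 - 5) :=
        Nat.mul_le_mul_left _ (Nat.pow_le_pow_left (hlow 3 Nat.prime_three (by norm_num)) _)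
  have hs11 : 11 ≤ s := by obtain ⟨k, rfl⟩ := hso; omega
  have hbig : s ^ 18 < 216 * Q ^ (2 * s - 5) := by
    rcases le_or_gt 21 s with h | h
    · have hQ4 : 4 ≤ Q := by
        obtain ⟨r, hr, hrs⟩ := Nat.exists_prime_and_dvd (show s ≠ 1 by omega)
        have hr2 : r ≠ 2 := fun e =>
          (Nat.not_even_iff_odd.2 hso) (even_iff_two_dvd.2 (e ▸ hrs))
        have := hlow r hr hrs
        have := hr.two_le
        omega
      exact (pow_eighteen_lt h).trans_le (Nat.mul_le_mul_left _ (Nat.pow_le_pow_left hQ4 _))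
    · obtain ⟨k, rfl⟩ := hso
      have hk : 5 ≤ k ∧ k ≤ 9 := by omega
      obtain ⟨hk1, hk2⟩ := hk
      interval_cases k
      · exact (show (11 : ℕ) ^ 18 < 216 * 12 ^ 17 by norm_num).trans_le (Nat.mul_le_mul_left _
          (Nat.pow_le_pow_left (hlow 11 (by norm_num) (by norm_num)) _))
      · exact (show (13 : ℕ) ^ 18 < 216 * 14 ^ 21 by norm_num).trans_le (Nat.mul_le_mul_left _
          (Nat.pow_le_pow_left (hlow 13 (by norm_num) (by norm_num)) _))
      · exact (show (15 : ℕ) ^ 18 < 216 * 6 ^ 25 by norm_num).trans_le (Nat.mul_le_mul_left _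
          (Nat.pow_le_pow_left (hlow 5 (by norm_num) (by norm_num)) _))
      · exact (show (17 : ℕ) ^ 18 < 216 * 18 ^ 29 by norm_num).trans_le (Nat.mul_le_mul_left _
          (Nat.pow_le_pow_left (hlow 17 (by norm_num) (by norm_num)) _))
      · exact (show (19 : ℕ) ^ 18 < 216 * 20 ^ 33 by norm_num).trans_le (Nat.mul_le_mul_left _
          (Nat.pow_le_pow_left (hlow 19 (by norm_num) (by norm_num)) _))
  refine gen (s * s * f) le_rfl ?_
  have h27 : 27 * (s * s * f) ^ 3 ≤ s ^ 18 := by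
    calc 27 * (s * s * f) ^ 3 = (s * s) ^ 3 * (3 * f) ^ 3 := by ring
      _ ≤ (s * s) ^ 3 * ((s * s) ^ 2) ^ 3 := Nat.mul_le_mul_left _ (Nat.pow_le_pow_left hf 3)
      _ = s ^ 18 := by ring
  omega

end CfsgLib.Char.OddBase
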