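import Mathlib

/-!
# Groups of odd order on modules and sets: regular orbits and order bounds

The two inductive properties used for the base of size two of an odd order completely reducible
linear group.
-/

set_option autoImplicit false
set_option linter.unusedSectionVars false

namespace CfsgLib.Char.OddBase

open scoped Pointwise

universe u

/-- A completely reducible action by additive automorphisms. -/
def IsCR (A V : Type u) [Group A] [AddCommGroup V] [DistribMulAction A V] : Prop :=
  ∀ U : AddSubgroup V, (∀ a : A, ∀ v ∈ U, a • v ∈ U) →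
    ∃ W : AddSubgroup V, (∀ a : A, ∀ w ∈ W, a • w ∈ W) ∧ U ⊓ W = ⊥ ∧ U ⊔ W = ⊤

/-- An irreducible action by additive automorphisms. -/
def IsIrr (A V : Type u) [Group A] [AddCommGroup V] [DistribMulAction A V] : Prop :=
  Nontrivial V ∧ ∀ U : AddSubgroup V, (∀ a : A, ∀ v ∈ U, a • v ∈ U) → U = ⊥ ∨ U = ⊤

theorem IsIrr.isCR {A V : Type u} [Group A] [AddCommGroup V] [DistribMulAction A V]
    (h : IsIrr A V) : IsCR A V := fun U hU => by
  rcases h.2 U hU with rfl | rfl
  · exact ⟨⊤, fun _ _ _ => AddSubgroup.mem_top _, bot_inf_eq _, bot_sup_eq _⟩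
  · exact ⟨⊥, fun a w hw => by rw [AddSubgroup.mem_bot.1 hw, smul_zero]; exact zero_mem _,
      inf_bot_eq _, sup_bot_eq _⟩

/-- Two vectors with trivial common stabiliser, and the bound `3|A| ≤ |V|²`. -/
def Good (A V : Type u) [Group A] [AddCommGroup V] [DistribMulAction A V] : Prop :=
  (∃ v w : V, ∀ a : A, a • v = v → a • w = w → a = 1) ∧
    (Nontrivial V → 3 * Nat.card A ≤ Nat.card V ^ 2)

/-- Completely reducible groups of odd order on at most `N` vectors are good. -/
def LinBelow (N : ℕ) : Prop :=
  ∀ (A V : Type u) [Group A] [Finite A] [AddCommGroup V] [Finite V] [DistribMulAction A V]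
    [FaithfulSMul A V], Odd (Nat.card A) → IsCR A V → Nat.card V ≤ N → Good A V

/-- A regular subset, and the bound `3|G| ≤ 3 ^ |Ω|`. -/
def PermGood (G Ω : Type u) [Group G] [MulAction G Ω] : Prop :=
  (∃ S : Set Ω, ∀ g : G, g • S = S → g = 1) ∧
    (Nonempty Ω → 3 * Nat.card G ≤ 3 ^ Nat.card Ω)

/-- Odd groups: the order of a subgroup, of a quotient, of an image is odd. -/
theorem odd_card_of_dvd {a b : ℕ} (hb : Odd b) (h : a ∣ b) : Odd a := by
  obtain ⟨c, rfl⟩ := h
  exact (Nat.odd_mul.1 hb).1

theorem odd_card_subgroup {G : Type u} [Group G] (hG : Odd (Nat.card G)) (H : Subgroup G) :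
    Odd (Nat.card H) :=
  odd_card_of_dvd hG H.card_subgroup_dvd_card

theorem odd_card_range {G H : Type u} [Group G] [Group H] (hG : Odd (Nat.card G)) (f : G →* H) :
    Odd (Nat.card f.range) :=
  odd_card_of_dvd hG (Subgroup.card_range_dvd f)

/-- An element of odd order with trivial square is trivial. -/
theorem eq_one_of_sq {G : Type u} [Group G] (hG : Odd (Nat.card G)) {g : G} (h : g ^ 2 = 1) :
    g = 1 := by
  have h1 : orderOf g ∣ 2 := orderOf_dvd_of_pow_eq_one h
  rcases (Nat.dvd_prime Nat.prime_two).1 h1 with h2 | h2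
  · exact orderOf_eq_one_iff.1 h2
  · have := odd_card_of_dvd hG (orderOf_dvd_natCard g)
    rw [h2] at this
    norm_num at this

/-- A group of odd order acting with few fixed points has a regular point. -/
theorem exists_free_point {G X : Type u} [Group G] [Finite G] [MulAction G X] [Finite X]
    (hG : Odd (Nat.card G)) (c : ℕ)
    (hfix : ∀ g : G, g ≠ 1 → Nat.card {x : X // g • x = x} ≤ c)
    (h : (Nat.card G - 1) * c < 2 * Nat.card X) : ∃ x : X, ∀ g : G, g • x = x → g = 1 := by
  classical
  by_contra hne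
  push Not at hne
  have := Fintype.ofFinite G
  have := Fintype.ofFinite X
  have key := Finset.sum_card_bipartiteAbove_eq_sum_card_bipartiteBelow
    (fun (g : G) (x : X) => g • x = x) (s := Finset.univ.erase (1 : G)) (t := (Finset.univ : Finset X))
  have h1 : ∑ g ∈ Finset.univ.erase (1 : G),
      (Finset.bipartiteAbove (fun (g : G) (x : X) => g • x = x) Finset.univ g).card ≤
      (Nat.card G - 1) * c := by
    refine (Finset.sum_le_card_nsmul _ _ c fun g hg => ?_).trans (le_of_eq ?_)
    · refine le_trans (le_of_eq ?_) (hfix g (Finset.mem_erase.1 hg).1)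
      rw [Nat.card_eq_fintype_card, Fintype.card_subtype, Finset.bipartiteAbove]
    · rw [Finset.card_erase_of_mem (Finset.mem_univ _), Finset.card_univ, smul_eq_mul,
        Nat.card_eq_fintype_card]
  have h2 : 2 * Nat.card X ≤ ∑ x : X,
      (Finset.bipartiteBelow (fun (g : G) (x : X) => g • x = x) (Finset.univ.erase (1 : G)) x).card := by
    rw [Nat.card_eq_fintype_card, ← Finset.card_univ, mul_comm, ← smul_eq_mul]
    refine Finset.card_nsmul_le_sum _ _ 2 fun x _ => ?_
    obtain ⟨g, hg, hg1⟩ := hne x
    refine le_trans (le_of_eq (Finset.card_pair (a := g) (b := g⁻¹) ?_).symm) (Finset.card_le_card ?_)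
    · intro e
      exact hg1 (eq_one_of_sq hG (by rw [pow_two]; nth_rw 1 [e]; exact inv_mul_cancel g))
    · intro y hy
      rw [Finset.mem_insert, Finset.mem_singleton] at hy
      rw [Finset.mem_bipartiteBelow, Finset.mem_erase]
      rcases hy with rfl | rfl
      · exact ⟨⟨hg1, Finset.mem_univ _⟩, hg⟩
      · exact ⟨⟨inv_ne_one.2 hg1, Finset.mem_univ _⟩, by rw [inv_smul_eq_iff, hg]⟩
  omega

end CfsgLib.Char.OddBase
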