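import Cfsg.Agent.Lib.Char.OddBase.Basic

/-!
# Sets fixed by an element of odd order
-/

set_option autoImplicit false
set_option linter.unusedSectionVars false

namespace CfsgLib.Char.OddBase

open scoped Pointwise

universe u

variable {G Ω : Type u} [Group G] [MulAction G Ω] [Finite Ω]

/-- An element of odd order with `f` fixed points has at most `(n + 2f)/3` orbits, and fixes at most
two to that power subsets. -/
theorem exists_orbit_bound {g : G} (hg : Odd (orderOf g)) :
    ∃ c : ℕ, 3 * c ≤ Nat.card Ω + 2 * Nat.card {x : Ω // g • x = x} ∧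
      Nat.card {S : Set Ω // g • S = S} ≤ 2 ^ c := by
  classical
  let C := Subgroup.zpowers g
  let Q := MulAction.orbitRel.Quotient C Ω
  have := Fintype.ofFinite Q
  have := Fintype.ofFinite Ω
  refine ⟨Fintype.card Q, ?_, ?_⟩
  · have e := Nat.card_congr (MulAction.selfEquivSigmaOrbits' C Ω)
    rw [Nat.card_sigma] at e
    rw [e]
    set F := Finset.univ.filter (fun q : Q => Nat.card q.orbit = 1) with hF
    have hFle : F.card ≤ Nat.card {x : Ω // g • x = x} := by
      have hfix : ∀ q ∈ F, g • q.out = q.out := fun q hq => by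
        have h1 := (Finset.mem_filter.1 hq).2
        rw [MulAction.orbitRel.Quotient.orbit_eq_orbit_out q Quotient.out_eq'] at h1
        haveI := (Nat.card_eq_one_iff_unique.1 h1).1
        have := Subsingleton.elim (⟨(⟨g, Subgroup.mem_zpowers g⟩ : C) • q.out,
          MulAction.mem_orbit _ _⟩ : MulAction.orbit C q.out) ⟨q.out, MulAction.mem_orbit_self _⟩
        exact congrArg Subtype.val this
      rw [← Fintype.card_coe, ← Nat.card_eq_fintype_card]
      refine Nat.card_le_card_of_injective (fun q : F => ⟨q.1.out, hfix q.1 q.2⟩) fun a b h => ?_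
      have h' : a.1.out = b.1.out := congrArg Subtype.val h
      exact Subtype.ext (by rw [← Quotient.out_eq' a.1, ← Quotient.out_eq' b.1, h'])
    have hbig : ∀ q ∈ Finset.univ.filter (fun q : Q => ¬ Nat.card q.orbit = 1),
        3 ≤ Nat.card q.orbit := by
      intro q hq
      have h1 := (Finset.mem_filter.1 hq).2
      have hodd : Odd (Nat.card q.orbit) := by
        rw [MulAction.orbitRel.Quotient.orbit_eq_orbit_out q Quotient.out_eq',
          Nat.card_congr (MulAction.orbitEquivQuotientStabilizer C q.out)]
        refine odd_card_of_dvd ?_ (Subgroup.card_quotient_dvd_card _)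
        rwa [Nat.card_zpowers]
      obtain ⟨k, hk⟩ := hodd
      omega
    rw [← Finset.sum_filter_add_sum_filter_not Finset.univ (fun q : Q => Nat.card q.orbit = 1)]
    have h1 : F.card ≤ ∑ q ∈ F, Nat.card q.orbit :=
      (Finset.card_eq_sum_ones F).le.trans
        (Finset.sum_le_sum fun q hq => (Finset.mem_filter.1 hq).2.ge)
    have h3 := Finset.card_nsmul_le_sum _ _ 3 hbig
    have hc := Finset.card_filter_add_card_filter_not (s := (Finset.univ : Finset Q))
      (p := fun q : Q => Nat.card q.orbit = 1)
    rw [Finset.card_univ] at hc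
    rw [smul_eq_mul] at h3
    rw [← hF] at hc ⊢
    omega
  · refine (Nat.card_le_card_of_injective
      (fun (S : {S : Set Ω // g • S = S}) (q : Q) => decide (q.out ∈ S.1)) fun S T h => ?_).trans ?_
    · refine Subtype.ext (Set.ext fun x => ?_)
      have hinv : ∀ U : {S : Set Ω // g • S = S}, ∀ c : C, ∀ y : Ω, c • y ∈ U.1 ↔ y ∈ U.1 := by
        intro U c y
        have hc : (c : G) ∈ MulAction.stabilizer G U.1 :=
          (Subgroup.zpowers_le.2 (MulAction.mem_stabilizer_iff.2 U.2)) c.2
        have h' := MulAction.mem_stabilizer_iff.1 hc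
        show (c : G) • y ∈ U.1 ↔ y ∈ U.1
        conv_lhs => rw [← h', Set.smul_mem_smul_set_iff]
      set q : Q := Quotient.mk'' x with hq
      obtain ⟨c, hc⟩ : q.out ∈ MulAction.orbit C x :=
        MulAction.orbitRel_apply.1 (Quotient.mk_out (s := MulAction.orbitRel C Ω) x)
      have h' : decide (q.out ∈ S.1) = decide (q.out ∈ T.1) := congrFun h q
      rw [decide_eq_decide, ← hc] at h'
      rw [← hinv S c x, ← hinv T c x]
      exact h'
    · rw [Nat.card_fun, Nat.card_eq_fintype_card (α := Bool), Fintype.card_bool,
        Nat.card_eq_fintype_card]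

end CfsgLib.Char.OddBase
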