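import Cfsg.Agent.Lib.Char.OddBase.Reduce

/-!
# Abelian normal subgroups of primitive linear groups generate fields
-/

set_option autoImplicit false
set_option linter.unusedSectionVars false
set_option linter.style.haveILetI false

namespace CfsgLib.Char.OddBase

universe u

variable {A V : Type u} [Group A] [Finite A] [AddCommGroup V] [Finite V] [DistribMulAction A V]
  [FaithfulSMul A V]

/-- The endomorphism given by a group element. -/
def toEnd : A →* AddMonoid.End V := DistribMulAction.toAddMonoidEnd A V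

theorem toEnd_apply (a : A) (v : V) : (toEnd a : AddMonoid.End V) v = a • v := rfl

theorem toEnd_injective : Function.Injective (toEnd : A →* AddMonoid.End V) := fun a b h =>
  FaithfulSMul.eq_of_smul_eq_smul (α := V) fun v => DFunLike.congr_fun h v

/-- An irreducible group acts on an elementary abelian group. -/
theorem IsIrr.exists_prime (hirr : IsIrr A V) : ∃ p : ℕ, p.Prime ∧ ∀ v : V, p • v = 0 := by
  haveI := hirr.1
  obtain ⟨p, hp, hpd⟩ := Nat.exists_prime_and_dvd
    (Finite.one_lt_card (α := V)).ne'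
  haveI := Fact.mk hp
  obtain ⟨v, hv⟩ := exists_prime_addOrderOf_dvd_card' p hpd
  refine ⟨p, hp, ?_⟩
  let U : AddSubgroup V := (nsmulAddMonoidHom (α := V) p).ker
  rcases hirr.2 U (fun a w hw => by
    rw [AddMonoidHom.mem_ker, nsmulAddMonoidHom_apply] at hw ⊢
    rw [show p • a • w = a • (p • w) from ((DistribSMul.toAddMonoidHom V a).map_nsmul p w).symm, hw,
      smul_zero]) with e | e
  · have hvU : v ∈ U := by
      rw [AddMonoidHom.mem_ker, nsmulAddMonoidHom_apply, ← hv]
      exact addOrderOf_nsmul_eq_zero v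
    rw [e, AddSubgroup.mem_bot] at hvU
    rw [hvU, addOrderOf_zero] at hv
    exact absurd hv.symm hp.ne_one
  · intro w
    have hw : w ∈ U := e ▸ AddSubgroup.mem_top w
    exact hw

/-- A normal `p`-subgroup of an irreducible group in characteristic `p` is trivial. -/
theorem IsIrr.normal_pGroup_eq_bot (hirr : IsIrr A V) {p : ℕ} [hp : Fact p.Prime]
    (hV : ∀ v : V, p • v = 0) (P : Subgroup A) [P.Normal] (hP : IsPGroup p P) : P = ⊥ := by
  haveI := hirr.1
  obtain ⟨v₀, hv₀⟩ := exists_ne (0 : V)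
  have hpd : p ∣ Nat.card V := by
    rw [← addOrderOf_eq_prime (hV v₀) hv₀]
    exact addOrderOf_dvd_natCard v₀
  obtain ⟨v, hv, hv0⟩ :=
    hP.exists_fixed_point_of_prime_dvd_card_of_fixed_point V hpd (a := (0 : V)) (fun g => smul_zero g)
  let U : AddSubgroup V :=
    { carrier := MulAction.fixedPoints P V
      add_mem' := fun {a b} ha hb g => by
        show (g : A) • (a + b) = a + b
        rw [smul_add, show (g : A) • a = a from ha g, show (g : A) • b = b from hb g]
      zero_mem' := fun g => smul_zero g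
      neg_mem' := fun {a} ha g => by
        show (g : A) • (-a) = -a
        rw [smul_neg, show (g : A) • a = a from ha g] }
  rcases hirr.2 U (fun a w hw g => by
    show (g : A) • a • w = a • w
    rw [show (g : A) • a • w = a • (a⁻¹ * g * a) • w by rw [← mul_smul, ← mul_smul]; group]
    congr 1
    exact hw ⟨a⁻¹ * g * a, by
      have := (inferInstance : P.Normal).conj_mem _ g.2 a⁻¹
      rwa [inv_inv] at this⟩) with e | e
  · have : v ∈ U := hv
    rw [e, AddSubgroup.mem_bot] at this
    exact absurd this hv0.symm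
  · refine (Subgroup.eq_bot_iff_forall _).2 fun g hg => FaithfulSMul.eq_of_smul_eq_smul (α := V)
      fun w => ?_
    rw [one_smul]
    exact (show w ∈ U from e ▸ AddSubgroup.mem_top w) ⟨g, hg⟩

/-- An abelian normal subgroup of an irreducible group in characteristic `p` has order prime to `p`. -/
theorem IsIrr.not_dvd_abelian (hirr : IsIrr A V) {p : ℕ} [hp : Fact p.Prime]
    (hV : ∀ v : V, p • v = 0) (N : Subgroup A) [N.Normal]
    (hab : ∀ x ∈ N, ∀ y ∈ N, x * y = y * x) : ¬ p ∣ Nat.card N := by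
  intro hd
  obtain ⟨⟨x, hx⟩, hxo⟩ := exists_prime_orderOf_dvd_card' p hd
  rw [Subgroup.orderOf_mk] at hxo
  let P : Subgroup A :=
    { carrier := {y | y ∈ N ∧ y ^ p = 1}
      one_mem' := ⟨one_mem _, one_pow _⟩
      mul_mem' := fun {a b} ha hb => ⟨mul_mem ha.1 hb.1, by
        rw [Commute.mul_pow (hab a ha.1 b hb.1), ha.2, hb.2, one_mul]⟩
      inv_mem' := fun {a} ha => ⟨inv_mem ha.1, by rw [inv_pow, ha.2, inv_one]⟩ }
  haveI : P.Normal := ⟨fun y hy a => ⟨(inferInstance : N.Normal).conj_mem y hy.1 a, by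
    rw [conj_pow, hy.2, mul_one, mul_inv_cancel]⟩⟩
  have hP : IsPGroup p P := fun y => ⟨1, Subtype.ext (by rw [pow_one]; exact y.2.2)⟩
  have hxP : x ∈ P := ⟨hx, by rw [← hxo]; exact pow_orderOf_eq_one x⟩
  rw [hirr.normal_pGroup_eq_bot hV P hP, Subgroup.mem_bot] at hxP
  rw [hxP, orderOf_one] at hxo
  exact hp.out.ne_one hxo.symm

/-- The subring generated by a subgroup. -/
abbrev gen (N : Subgroup A) : Subring (AddMonoid.End V) :=
  Subring.closure ((toEnd : A →* AddMonoid.End V) '' (N : Set A))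

theorem toEnd_mem_gen {N : Subgroup A} {n : A} (hn : n ∈ N) :
    (toEnd n : AddMonoid.End V) ∈ gen (V := V) N :=
  Subring.subset_closure ⟨n, hn, rfl⟩

theorem conj_mem_gen {N : Subgroup A} [N.Normal] (a : A) {z : AddMonoid.End V}
    (hz : z ∈ gen (V := V) N) : toEnd a * z * toEnd a⁻¹ ∈ gen (V := V) N := by
  have h1 : (toEnd a : AddMonoid.End V) * toEnd a⁻¹ = 1 := by rw [← map_mul, mul_inv_cancel, map_one]
  have h2 : (toEnd a⁻¹ : AddMonoid.End V) * toEnd a = 1 := by rw [← map_mul, inv_mul_cancel, map_one]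
  unfold gen at hz ⊢
  induction hz using Subring.closure_induction with
  | mem x hx =>
    obtain ⟨n, hn, rfl⟩ := hx
    exact Subring.subset_closure
      ⟨a * n * a⁻¹, (inferInstance : N.Normal).conj_mem n hn a, by rw [map_mul, map_mul]⟩
  | zero => rw [mul_zero, zero_mul]; exact zero_mem _
  | one => rw [mul_one, h1]; exact one_mem _
  | add x y _ _ hx hy => rw [mul_add, add_mul]; exact add_mem hx hy
  | neg x _ hx => rw [mul_neg, neg_mul]; exact neg_mem hx
  | mul x y _ _ hx hy =>
    have : toEnd a * (x * y) * toEnd a⁻¹ =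
        (toEnd a * x * toEnd a⁻¹) * (toEnd a * y * toEnd a⁻¹) := by
      rw [show (toEnd a * x * toEnd a⁻¹) * (toEnd a * y * toEnd a⁻¹) =
        toEnd a * x * (toEnd a⁻¹ * toEnd a) * y * toEnd a⁻¹ by simp only [mul_assoc], h2]
      simp only [mul_assoc, one_mul]
    rw [this]
    exact mul_mem hx hy

theorem commute_gen {N : Subgroup A} (hab : ∀ x ∈ N, ∀ y ∈ N, x * y = y * x) {y z : AddMonoid.End V}
    (hy : y ∈ gen (V := V) N) (hz : z ∈ gen (V := V) N) : y * z = z * y := by
  letI : CommRing (gen (V := V) N) := Subring.closureCommRingOfComm (s := (toEnd : A →* AddMonoid.End V) '' (N : Set A)) (by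
    rintro _ ⟨x, hx, rfl⟩ _ ⟨x', hx', rfl⟩
    rw [← map_mul, ← map_mul, hab x hx x' hx'])
  exact congrArg Subtype.val (mul_comm (⟨y, hy⟩ : gen (V := V) N) ⟨z, hz⟩)

/-- Some power of every element of the generated ring is the element itself. -/
theorem exists_pow_eq (hirr : IsIrr A V) (N : Subgroup A) [N.Normal]
    (hab : ∀ x ∈ N, ∀ y ∈ N, x * y = y * x) :
    ∃ Q : ℕ, 2 ≤ Q ∧ ∀ z ∈ gen (V := V) N, z ^ Q = z := by
  obtain ⟨p, hp, hV⟩ := hirr.exists_prime
  haveI := Fact.mk hp
  haveI := hirr.1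
  have hpN := hirr.not_dvd_abelian hV N hab
  set K := gen (V := V) N with hK
  letI : CommRing K := Subring.closureCommRingOfComm (s := (toEnd : A →* AddMonoid.End V) '' (N : Set A)) (by
    rintro _ ⟨x, hx, rfl⟩ _ ⟨x', hx', rfl⟩
    rw [← map_mul, ← map_mul, hab x hx x' hx'])
  haveI : Nontrivial K := by
    obtain ⟨v, hv⟩ := exists_ne (0 : V)
    exact ⟨⟨0, 1, fun h => hv (DFunLike.congr_fun (congrArg Subtype.val h) v).symm⟩⟩
  haveI : CharP K p := by
    refine (CharP.charP_iff_prime_eq_zero hp).2 (Subtype.ext ?_)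
    have h : (p : AddMonoid.End V) = 0 := AddMonoidHom.ext fun v => by
      exact (AddMonoid.End.natCast_apply p v).trans (hV v)
    simpa using h
  set s := Nat.totient (Nat.card N) with hs
  have hs1 : 1 ≤ s := Nat.totient_pos.2 Nat.card_pos
  refine ⟨p ^ s, le_trans hp.two_le (Nat.le_self_pow (by omega) p), fun z hz => ?_⟩
  have hmod : p ^ s ≡ 1 [MOD Nat.card N] :=
    Nat.ModEq.pow_totient ((Nat.Prime.coprime_iff_not_dvd hp).2 hpN)
  have key : ∀ (z : AddMonoid.End V) (hz : z ∈ K), (⟨z, hz⟩ : K) ^ p ^ s = ⟨z, hz⟩ := by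
    intro z hz
    change z ∈ Subring.closure _ at hz
    induction hz using Subring.closure_induction with
    | mem x hx =>
      obtain ⟨n, hn, rfl⟩ := hx
      refine Subtype.ext ?_
      show (toEnd n : AddMonoid.End V) ^ p ^ s = toEnd n
      rw [← map_pow]
      congr 1
      have h : (⟨n, hn⟩ : N) ^ (p ^ s) = (⟨n, hn⟩ : N) ^ 1 :=
        pow_eq_pow_iff_modEq.2 (hmod.of_dvd (orderOf_dvd_natCard _))
      rw [pow_one] at h
      exact congrArg Subtype.val h
    | zero => exact zero_pow (pow_ne_zero _ hp.ne_zero)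
    | one => exact one_pow _
    | add x y hx hy ihx ihy =>
      show ((⟨x, hx⟩ : K) + ⟨y, hy⟩) ^ p ^ s = ⟨x, hx⟩ + ⟨y, hy⟩
      rw [add_pow_char_pow, ihx, ihy]
    | neg x hx ihx =>
      show (-(⟨x, hx⟩ : K)) ^ p ^ s = -⟨x, hx⟩
      rw [neg_pow, ihx]
      rcases hp.eq_two_or_odd' with rfl | ho
      · rw [CharTwo.neg_eq, CharTwo.neg_eq, one_pow, one_mul]
      · rw [(ho.pow).neg_one_pow, neg_one_mul]
    | mul x y hx hy ihx ihy =>
      show ((⟨x, hx⟩ : K) * ⟨y, hy⟩) ^ p ^ s = ⟨x, hx⟩ * ⟨y, hy⟩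
      rw [mul_pow, ihx, ihy]
  exact congrArg Subtype.val (key z hz)

/-- In a primitive group the idempotents of the generated ring are trivial. -/
theorem idem_trivial (hirr : IsIrr A V) (hprim : IsEmpty (System A V)) (N : Subgroup A) [N.Normal]
    (hab : ∀ x ∈ N, ∀ y ∈ N, x * y = y * x) {f : AddMonoid.End V} (hf : f ∈ gen (V := V) N)
    (hff : f * f = f) : f = 0 ∨ f = 1 := by
  classical
  have := Fintype.ofFinite (AddMonoid.End V)
  set K := gen (V := V) N
  let Idem : AddMonoid.End V → Prop := fun e => e ∈ K ∧ e * e = e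
  let Atom : AddMonoid.End V → Prop := fun e =>
    Idem e ∧ e ≠ 0 ∧ ∀ g, Idem g → e * g = 0 ∨ e * g = e
  have hexists : ∀ g, Idem g → g ≠ 0 → ∃ e, Atom e ∧ e * g = e := by
    intro g hg hg0
    obtain ⟨e, he, hmin⟩ := Finset.exists_min_image
      (Finset.univ.filter fun e : AddMonoid.End V => Idem e ∧ e ≠ 0 ∧ e * g = e)
      (fun e : AddMonoid.End V => Nat.card (Set.range fun v => e v))
      ⟨g, Finset.mem_filter.2 ⟨Finset.mem_univ _, hg, hg0, hg.2⟩⟩
    obtain ⟨-, he, he0, heg⟩ := Finset.mem_filter.1 he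
    refine ⟨e, ⟨he, he0, fun h hh => ?_⟩, heg⟩
    by_contra hcon
    push Not at hcon
    have hc := commute_gen hab he.1 hh.1
    have hidem : Idem (e * h) := ⟨mul_mem he.1 hh.1, by
      calc e * h * (e * h) = e * (h * e) * h := by simp only [mul_assoc]
        _ = e * e * (h * h) := by rw [← hc]; simp only [mul_assoc]
        _ = e * h := by rw [he.2, hh.2]⟩
    have hge : e * h * g = e * h := by
      rw [mul_assoc, commute_gen hab hh.1 hg.1, ← mul_assoc, heg]
    have hle := hmin (e * h) (Finset.mem_filter.2 ⟨Finset.mem_univ _, hidem, hcon.1, hge⟩)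
    have hsub : (Set.range fun v => (e * h) v) ⊆ Set.range fun v => e v := by
      rintro _ ⟨v, rfl⟩
      exact ⟨h v, rfl⟩
    have heq := Set.eq_of_subset_of_ncard_le hsub (by
      rw [← Nat.card_coe_set_eq, ← Nat.card_coe_set_eq]; exact hle)
    refine hcon.2 (AddMonoidHom.ext fun v => ?_)
    obtain ⟨w, hw⟩ : e v ∈ Set.range fun v => (e * h) v := heq ▸ ⟨v, rfl⟩
    have h1 : (e * h) (e v) = e v := by
      rw [← hw]
      exact DFunLike.congr_fun hidem.2 w
    have h2 : (e * h) (e v) = (e * h * e) v := rfl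
    rw [h2, mul_assoc, ← hc, ← mul_assoc, he.2] at h1
    exact h1
  have horth : ∀ e e', Atom e → Atom e' → e ≠ e' → e * e' = 0 := by
    intro e e' he he' hne
    rcases he.2.2 e' he'.1 with h | h
    · exact h
    · rcases he'.2.2 e he.1 with h' | h'
      · rw [commute_gen hab he.1.1 he'.1.1, h']
      · exact absurd (h.symm.trans ((commute_gen hab he.1.1 he'.1.1).trans h')) hne
  set I := {e : AddMonoid.End V // Atom e}
  have hsum : ∑ e : I, e.1 = 1 := by
    set S := ∑ e : I, e.1 with hS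
    have hSK : S ∈ K := sum_mem fun e _ => e.2.1.1
    have heS : ∀ e : I, e.1 * S = e.1 := fun e => by
      rw [hS, Finset.mul_sum, Finset.sum_eq_single e
        (fun b _ hb => horth _ _ e.2 b.2 (fun h => hb (Subtype.ext h.symm)))
        (fun h => absurd (Finset.mem_univ e) h), e.2.1.2]
    have hSS : S * S = S := by
      conv_lhs => arg 1; rw [hS]
      rw [Finset.sum_mul]
      exact Finset.sum_congr rfl fun e _ => heS e
    by_contra hne
    obtain ⟨e, he, heg⟩ := hexists (1 - S) ⟨sub_mem (one_mem _) hSK, by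
      rw [sub_mul, one_mul, mul_sub, mul_one, hSS, sub_self, sub_zero]⟩ (sub_ne_zero.2 (Ne.symm hne))
    rw [mul_sub, mul_one, heS ⟨e, he⟩, sub_self] at heg
    exact he.2.1 heg.symm
  by_cases hcard : 2 ≤ Fintype.card I
  · refine (hprim.false ?_).elim
    have hconj : ∀ (a : A) (e : AddMonoid.End V), Atom e → Atom (toEnd a * e * toEnd a⁻¹) := by
      have hmul : ∀ (a : A) (x y : AddMonoid.End V),
          toEnd a * x * toEnd a⁻¹ * (toEnd a * y * toEnd a⁻¹) = toEnd a * (x * y) * toEnd a⁻¹ := by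
        intro a x y
        rw [show toEnd a * x * toEnd a⁻¹ * (toEnd a * y * toEnd a⁻¹) =
          toEnd a * x * (toEnd a⁻¹ * toEnd a) * y * toEnd a⁻¹ by simp only [mul_assoc],
          ← map_mul, inv_mul_cancel, map_one]
        simp only [mul_assoc, one_mul]
      have hinv : ∀ (a : A) (x : AddMonoid.End V),
          toEnd a * (toEnd a⁻¹ * x * toEnd a⁻¹⁻¹) * toEnd a⁻¹ = x := by
        intro a x
        rw [inv_inv, show toEnd a * (toEnd a⁻¹ * x * toEnd a) * toEnd a⁻¹ =
          (toEnd a * toEnd a⁻¹) * x * (toEnd a * toEnd a⁻¹) by simp only [mul_assoc],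
          ← map_mul, mul_inv_cancel, map_one, one_mul, mul_one]
      intro a e he
      refine ⟨⟨conj_mem_gen a he.1.1, by rw [hmul, he.1.2]⟩, fun h0 => he.2.1 ?_, fun g hg => ?_⟩
      · have h3 := hinv a⁻¹ e
        rw [inv_inv] at h3
        rw [h0] at h3
        rw [← h3, mul_zero, zero_mul]
      · have hg' : Idem (toEnd a⁻¹ * g * toEnd a⁻¹⁻¹) := ⟨conj_mem_gen a⁻¹ hg.1, by rw [hmul, hg.2]⟩
        rcases he.2.2 _ hg' with h | h
        · left
          rw [← hinv a g, hmul, h, mul_zero, zero_mul]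
        · right
          rw [← hinv a g, hmul, h]
    let inst : MulAction A I :=
      { smul := fun a e => ⟨toEnd a * e.1 * toEnd a⁻¹, hconj a e.1 e.2⟩
        one_smul := fun e => Subtype.ext (by
          show toEnd (1 : A) * e.1 * toEnd (1 : A)⁻¹ = e.1
          rw [inv_one, map_one, one_mul, mul_one])
        mul_smul := fun a b e => Subtype.ext (by
          show toEnd (a * b) * e.1 * toEnd (a * b)⁻¹ = toEnd a * (toEnd b * e.1 * toEnd b⁻¹) * toEnd a⁻¹
          rw [mul_inv_rev, map_mul, map_mul]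
          simp only [mul_assoc]) }
    refine
      { I := I, inst := inst, fin := inferInstance
        W := fun e => e.1.range
        maps := ?_, bij := ?_, ne_bot := ?_, two_le := hcard }
    · rintro a e _ ⟨v, rfl⟩
      refine ⟨a • v, ?_⟩
      show (toEnd a : AddMonoid.End V) (e.1 ((toEnd a⁻¹ : AddMonoid.End V) (a • v))) = a • e.1 v
      rw [toEnd_apply, toEnd_apply, inv_smul_smul]
    · have hfix : ∀ (e : I) (w : e.1.range), e.1 (w : V) = w := by
        rintro e ⟨_, v, rfl⟩
        exact DFunLike.congr_fun e.2.1.2 v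
      refine ⟨fun x y hxy => funext fun e => Subtype.ext ?_, fun v => ?_⟩
      · have h0 : ∀ (z : ∀ e : I, e.1.range), e.1 (∑ b, (z b : V)) = (z e : V) := by
          intro z
          rw [map_sum, Finset.sum_eq_single e (fun b _ hb => ?_)
            (fun h => absurd (Finset.mem_univ e) h), hfix]
          rw [← hfix b (z b)]
          exact DFunLike.congr_fun (horth _ _ e.2 b.2 fun h => hb (Subtype.ext h.symm)) _
        rw [← h0 x, ← h0 y]
        exact congrArg e.1 hxy
      · refine ⟨fun e => ⟨e.1 v, v, rfl⟩, ?_⟩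
        show ∑ e : I, e.1 v = v
        let ev : AddMonoid.End V →+ V :=
          { toFun := fun g => g v, map_zero' := rfl, map_add' := fun _ _ => rfl }
        have h3 := congrArg ev hsum
        rw [map_sum] at h3
        exact h3
    · intro e he
      refine e.2.2.1 (AddMonoidHom.ext fun v => ?_)
      have : e.1 v ∈ e.1.range := ⟨v, rfl⟩
      rw [he] at this
      exact this
  · have hsub : Subsingleton I := Fintype.card_le_one_iff_subsingleton.1 (by omega)
    by_cases hf0 : f = 0
    · exact Or.inl hf0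
    obtain ⟨e, he, hef⟩ := hexists f ⟨hf, hff⟩ hf0
    have h1 : (e : AddMonoid.End V) = 1 := by
      rw [← hsum, Finset.sum_eq_single (⟨e, he⟩ : I)
        (fun b _ hb => absurd (Subsingleton.elim b _) hb) (fun h => absurd (Finset.mem_univ _) h)]
    rw [h1, one_mul] at hef
    exact Or.inr hef

/-- The ring generated by an abelian normal subgroup of a primitive group is a field. -/
theorem gen_isField (hirr : IsIrr A V) (hprim : IsEmpty (System A V)) (N : Subgroup A) [N.Normal]
    (hab : ∀ x ∈ N, ∀ y ∈ N, x * y = y * x) : IsField (gen (V := V) N) := by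
  haveI := hirr.1
  obtain ⟨Q, hQ, hpow⟩ := exists_pow_eq hirr N hab
  refine ⟨⟨0, 1, fun h => ?_⟩, fun x y => Subtype.ext (commute_gen hab x.2 y.2), fun {z} hz => ?_⟩
  · obtain ⟨v, hv⟩ := exists_ne (0 : V)
    exact hv (DFunLike.congr_fun (congrArg Subtype.val h) v).symm
  · refine ⟨z ^ (Q - 2), Subtype.ext ?_⟩
    have hzz := hpow z.1 z.2
    have e1 : (z.1) ^ (Q - 1) * z.1 = z.1 := by
      rw [← pow_succ, show Q - 1 + 1 = Q by omega, hzz]
    have hidem : z.1 ^ (Q - 1) * z.1 ^ (Q - 1) = z.1 ^ (Q - 1) := by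
      conv_rhs => rw [show Q - 1 = 1 + (Q - 2) by omega, pow_add, pow_one]
      conv_lhs => arg 2; rw [show Q - 1 = 1 + (Q - 2) by omega, pow_add, pow_one]
      rw [← mul_assoc, e1]
    rcases idem_trivial hirr hprim N hab (pow_mem z.2 _) hidem with h | h
    · refine absurd (Subtype.ext ?_) hz
      rw [← e1, h, zero_mul]
      rfl
    · show z.1 * z.1 ^ (Q - 2) = 1
      rw [← h, show Q - 1 = 1 + (Q - 2) by omega, pow_add, pow_one]

/-- Non-trivial elements of an abelian normal subgroup of a primitive group fix only zero. -/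
theorem fixed_eq_zero (hirr : IsIrr A V) (hprim : IsEmpty (System A V)) (N : Subgroup A) [N.Normal]
    (hab : ∀ x ∈ N, ∀ y ∈ N, x * y = y * x) {n : A} (hn : n ∈ N) (hn1 : n ≠ 1) {v : V}
    (hv : n • v = v) : v = 0 := by
  have hF := gen_isField hirr hprim N hab
  let z : gen (V := V) N := ⟨toEnd n - 1, sub_mem (toEnd_mem_gen hn) (one_mem _)⟩
  have hz : z ≠ 0 := fun h => hn1 (toEnd_injective (by
    rw [map_one]
    exact sub_eq_zero.1 (congrArg Subtype.val h)))
  obtain ⟨w, hw⟩ := hF.mul_inv_cancel hz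
  rw [hF.mul_comm] at hw
  have := DFunLike.congr_fun (congrArg Subtype.val hw) v
  change w.1 ((toEnd n : AddMonoid.End V) v - v) = v at this
  rw [toEnd_apply, hv, sub_self, map_zero] at this
  exact this.symm

end CfsgLib.Char.OddBase
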