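import Cfsg.Agent.Lib.Char.OddBase.Cycles
import Cfsg.Agent.Lib.Coprime.Primitive
import Cfsg.Agent.Lib.FT.NoMinSimple

/-!
# Primitive groups of odd order have regular subsets
-/

set_option autoImplicit false
set_option linter.unusedSectionVars false
set_option linter.style.haveILetI false

namespace CfsgLib.Char.OddBase

open scoped Pointwise

universe u

theorem cube_le_three_pow {n : ℕ} (h : 3 ≤ n) : n ^ 3 ≤ 3 ^ n := by
  induction n, h using Nat.le_induction with
  | base => norm_num
  | succ n hn ih =>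
    have : (n + 1) ^ 3 ≤ 3 * n ^ 3 := by nlinarith [sq_nonneg (n - 3 : ℤ), mul_le_mul' hn hn]
    calc (n + 1) ^ 3 ≤ 3 * n ^ 3 := this
      _ ≤ 3 * 3 ^ n := by omega
      _ = 3 ^ (n + 1) := by ring

theorem pow_six_lt {n : ℕ} (h : 5 ≤ n) : n ^ 6 < 2 ^ (2 * n + 4) := by
  induction n, h using Nat.le_induction with
  | base => norm_num
  | succ n hn ih =>
    have h5 : 5 * (n + 1) ≤ 6 * n := by omega
    have h6 := Nat.pow_le_pow_left h5 6
    rw [mul_pow, mul_pow] at h6
    have : (n + 1) ^ 6 ≤ 4 * n ^ 6 := by norm_num at h6 ⊢; omega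
    calc (n + 1) ^ 6 ≤ 4 * n ^ 6 := this
      _ < 4 * 2 ^ (2 * n + 4) := by omega
      _ = 2 ^ (2 * (n + 1) + 4) := by ring

theorem pow_twentyseven_lt {n : ℕ} (h : 27 ≤ n) : n ^ 27 < 2 ^ (4 * n + 22) := by
  induction n, h using Nat.le_induction with
  | base => norm_num
  | succ n hn ih =>
    have h5 : 27 * (n + 1) ≤ 28 * n := by omega
    have h6 := Nat.pow_le_pow_left h5 27
    rw [mul_pow, mul_pow] at h6
    have : (n + 1) ^ 27 ≤ 16 * n ^ 27 := by norm_num at h6 ⊢; omega
    calc (n + 1) ^ 27 ≤ 16 * n ^ 27 := this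
      _ < 16 * 2 ^ (4 * n + 22) := by omega
      _ = 2 ^ (4 * (n + 1) + 22) := by ring

/-- The counting inequality for an odd primitive group of prime degree. -/
theorem count_prime {n h c : ℕ} (hn : 3 ≤ n) (hh : 2 * h ≤ n - 1) (hc : 3 * c ≤ n + 2)
    (ho : Odd n) : (n * h - 1) * 2 ^ c < 2 * 2 ^ n := by
  have key : n * h * 2 ^ c < 2 ^ (n + 1) := by
    rcases eq_or_lt_of_le hn with rfl | hn3
    · have h1 : h ≤ 1 := by omega
      have hc1 : c ≤ 1 := by omega
      calc 3 * h * 2 ^ c ≤ 3 * 1 * 2 ^ 1 :=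
            Nat.mul_le_mul (Nat.mul_le_mul_left _ h1) (Nat.pow_le_pow_right (by norm_num) hc1)
        _ < 2 ^ (3 + 1) := by norm_num
    · have h5 : 5 ≤ n := by obtain ⟨k, hk⟩ := ho; omega
      have h6 := pow_six_lt h5
      by_contra hcon
      push Not at hcon
      have h2 : 2 * (n * h) ≤ n * n := by
        calc 2 * (n * h) = n * (2 * h) := by ring
          _ ≤ n * n := Nat.mul_le_mul_left _ (by omega)
      have h3 : 2 ^ (n + 2) ≤ n * n * 2 ^ c := by
        calc 2 ^ (n + 2) = 2 * 2 ^ (n + 1) := by ring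
          _ ≤ 2 * (n * h * 2 ^ c) := Nat.mul_le_mul_left _ hcon
          _ = 2 * (n * h) * 2 ^ c := by ring
          _ ≤ n * n * 2 ^ c := Nat.mul_le_mul_right _ h2
      have h4 := Nat.pow_le_pow_left h3 3
      have h7 : (2 : ℕ) ^ (3 * c) ≤ 2 ^ (n + 2) := Nat.pow_le_pow_right (by norm_num) hc
      have h8 : (n * n * 2 ^ c) ^ 3 ≤ n ^ 6 * 2 ^ (n + 2) := by
        calc (n * n * 2 ^ c) ^ 3 = n ^ 6 * 2 ^ (3 * c) := by ring
          _ ≤ _ := Nat.mul_le_mul_left _ h7
      have h9 : (2 ^ (n + 2)) ^ 3 = 2 ^ (2 * n + 4) * 2 ^ (n + 2) := by ring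
      have := h4.trans h8
      rw [h9] at this
      exact absurd (Nat.le_of_mul_le_mul_right this (by positivity)) (not_le.2 h6)
  calc (n * h - 1) * 2 ^ c ≤ n * h * 2 ^ c := Nat.mul_le_mul_right _ (Nat.sub_le _ _)
    _ < 2 ^ (n + 1) := key
    _ = 2 * 2 ^ n := by ring

/-- The counting inequality for an odd primitive group of degree a proper prime power. -/
theorem count_power {n h c : ℕ} (hn : 27 ≤ n ∨ n = 25) (hh : 3 * h ≤ n ^ 2)
    (hc : 9 * c ≤ 5 * n) (hc' : n = 25 → c ≤ 11) : (n * h - 1) * 2 ^ c < 2 * 2 ^ n := by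
  have key : n * h * 2 ^ c < 2 ^ (n + 1) := by
    by_contra hcon
    push Not at hcon
    have h3 : 3 * 2 ^ (n + 1) ≤ n ^ 3 * 2 ^ c := by
      calc 3 * 2 ^ (n + 1) ≤ 3 * (n * h * 2 ^ c) := Nat.mul_le_mul_left _ hcon
        _ = n * (3 * h) * 2 ^ c := by ring
        _ ≤ n * n ^ 2 * 2 ^ c := Nat.mul_le_mul_right _ (Nat.mul_le_mul_left _ hh)
        _ = n ^ 3 * 2 ^ c := by ring
    rcases hn with hn | rfl
    · have h6 := pow_twentyseven_lt hn
      have h4 := Nat.pow_le_pow_left h3 9
      have h7 : (2 : ℕ) ^ (9 * c) ≤ 2 ^ (5 * n) := Nat.pow_le_pow_right (by norm_num) hc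
      have h8 : (n ^ 3 * 2 ^ c) ^ 9 ≤ n ^ 27 * 2 ^ (5 * n) := by
        calc (n ^ 3 * 2 ^ c) ^ 9 = n ^ 27 * 2 ^ (9 * c) := by ring
          _ ≤ _ := Nat.mul_le_mul_left _ h7
      have h9 : (3 * 2 ^ (n + 1)) ^ 9 = 19683 * 2 ^ (4 * n + 9) * 2 ^ (5 * n) := by ring
      have h10 := h4.trans h8
      rw [h9] at h10
      have h11 := Nat.le_of_mul_le_mul_right h10 (by positivity)
      have h12 : (2 : ℕ) ^ (4 * n + 22) = 8192 * 2 ^ (4 * n + 9) := by ring
      omega
    · have := (Nat.pow_le_pow_right (n := 2) (by norm_num) (hc' rfl))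
      norm_num at h3 this
      omega
  calc (n * h - 1) * 2 ^ c ≤ n * h * 2 ^ c := Nat.mul_le_mul_right _ (Nat.sub_le _ _)
    _ < 2 ^ (n + 1) := key
    _ = 2 * 2 ^ n := by ring

variable {G Ω : Type u} [Group G] [Finite G] [MulAction G Ω] [Finite Ω] [FaithfulSMul G Ω]

/-- A primitive group of odd order is good. -/
theorem permGood_primitive (hG : Odd (Nat.card G)) (hlin : LinBelow.{u} (Nat.card Ω))
    [Nontrivial Ω] (hprim : MulAction.IsPreprimitive G Ω) : PermGood G Ω := by
  classical
  haveI : Group.IsSolvable G := CfsgLib.FT.isSolvable_of_odd G hG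
  haveI := hprim.toIsPretransitive
  obtain ⟨ω⟩ := (inferInstance : Nonempty Ω)
  haveI hnt : Nontrivial G := by
    obtain ⟨x, y, hxy⟩ := exists_pair_ne Ω
    obtain ⟨g, rfl⟩ := MulAction.exists_smul_eq G x y
    exact ⟨⟨g, 1, fun e => hxy (by rw [e, one_smul])⟩⟩
  obtain ⟨M, ⟨hMn, hM⟩, hmin⟩ := (Set.toFinite {K : Subgroup G | K.Normal ∧ K ≠ ⊥}).exists_minimal
    ⟨⊤, ⟨inferInstance, top_ne_bot⟩⟩
  haveI := hMn
  have hmin' : ∀ K : Subgroup G, K.Normal → K ≤ M → K = ⊥ ∨ K = M := fun K hK hKM =>
    or_iff_not_imp_left.2 fun h => le_antisymm hKM (hmin ⟨hK, h⟩ hKM)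
  obtain ⟨p, d, hp, hd, hMcard, hMp, hMc⟩ := Coprime.exists_minimal_abelian M hM hmin'
  obtain ⟨hcompl, hfaith, hirr⟩ := Coprime.primitive_stabilizer_complement hprim M hM hmin' ω
  obtain ⟨ht, hreg, -⟩ := Coprime.primitive_minimal_normal_regular hprim M hM hmin'
  set H := MulAction.stabilizer G ω with hH
  have hcomm : ∀ a b : M, a * b = b * a := fun a b =>
    Subtype.ext (Subgroup.mem_centralizer_iff.1 (hMc b.2) a a.2)
  letI : CommGroup M := { (inferInstance : Group M) with mul_comm := hcomm }
  have hbij : Function.Bijective (fun m : M => (m : G) • ω) := by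
    refine ⟨fun a b hab => ?_, fun x => ?_⟩
    · have : b⁻¹ * a ∈ MulAction.stabilizer M ω := by
        rw [MulAction.mem_stabilizer_iff]
        show ((b : G)⁻¹ * a) • ω = ω
        rw [mul_smul]
        exact inv_smul_eq_iff.2 hab
      rw [hreg ω, Subgroup.mem_bot, inv_mul_eq_one] at this
      exact this.symm
    · obtain ⟨m, hm⟩ := ht.exists_smul_eq ω x
      exact ⟨m, hm⟩
  have hn : Nat.card Ω = p ^ d := by rw [← Nat.card_eq_of_bijective _ hbij, hMcard]
  -- the module
  let ψ : H →* MulAut M := (MulAut.conjNormal (H := M)).comp H.subtype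
  letI instM : DistribMulAction H (Additive M) :=
    { smul := fun h v => Additive.ofMul (ψ h (Additive.toMul v))
      one_smul := fun v => by
        show Additive.ofMul (ψ 1 (Additive.toMul v)) = v
        rw [map_one]; rfl
      mul_smul := fun a b v => by
        show Additive.ofMul (ψ (a * b) (Additive.toMul v)) = _
        rw [map_mul]; rfl
      smul_zero := fun a => by
        show Additive.ofMul (ψ a 1) = 0
        rw [map_one]; rfl
      smul_add := fun a v w => by
        show Additive.ofMul (ψ a (Additive.toMul v * Additive.toMul w)) = _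
        rw [map_mul]; rfl }
  have hact : ∀ (h : H) (m : M),
      ((Additive.toMul (h • Additive.ofMul m) : M) : G) = (h : G) * m * (h : G)⁻¹ := fun h m =>
    MulAut.conjNormal_apply (H := M) (h : G) m
  haveI : FaithfulSMul H (Additive M) := by
    refine ⟨fun {a b} hab => ?_⟩
    have h1 : ((b⁻¹ * a : H) : G) ∈ H ⊓ Subgroup.centralizer (M : Set G) := by
      refine ⟨(b⁻¹ * a).2, Subgroup.mem_centralizer_iff.2 fun m hm => ?_⟩
      have h2 : (b⁻¹ * a) • Additive.ofMul (⟨m, hm⟩ : M) = Additive.ofMul (⟨m, hm⟩ : M) := by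
        rw [mul_smul, hab, inv_smul_smul]
      have h3 := hact (b⁻¹ * a) ⟨m, hm⟩
      rw [h2, toMul_ofMul] at h3
      exact eq_mul_inv_iff_mul_eq.1 h3
    rw [hfaith, Subgroup.mem_bot] at h1
    have h4 : b⁻¹ * a = 1 := Subtype.ext h1
    exact (inv_mul_eq_one.1 h4).symm
  haveI : Nontrivial M := (Subgroup.nontrivial_iff_ne_bot M).2 hM
  have hIrr : IsIrr H (Additive M) := by
    refine ⟨inferInstance, fun U hU => ?_⟩
    set K : Subgroup G := (AddSubgroup.toSubgroup' U).map M.subtype with hK
    have hKle : K ≤ M := Subgroup.map_subtype_le _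
    have hHK : H ≤ Subgroup.normalizer (K : Set G) := by
      have hstep : ∀ h ∈ H, ∀ k ∈ K, h * k * h⁻¹ ∈ K := by
        rintro h hh _ ⟨m, hm, rfl⟩
        exact ⟨_, hU ⟨h, hh⟩ (Additive.ofMul m) hm, hact ⟨h, hh⟩ m⟩
      intro h hh
      rw [Subgroup.mem_normalizer_iff]
      refine fun k => ⟨hstep h hh k, fun hk => ?_⟩
      have := hstep h⁻¹ (inv_mem hh) _ hk
      rwa [inv_inv, show h⁻¹ * (h * k * h⁻¹) * h = k by group] at this
    rcases hirr K hKle hHK with e | e
    · left
      rw [hK, Subgroup.map_eq_bot_iff_of_injective _ M.subtype_injective] at e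
      refine (AddSubgroup.eq_bot_iff_forall _).2 fun v hv => ?_
      have : Additive.toMul v ∈ AddSubgroup.toSubgroup' U := hv
      rw [e, Subgroup.mem_bot] at this
      exact Additive.toMul.injective (this.trans toMul_zero.symm)
    · right
      refine eq_top_iff.2 fun v _ => ?_
      have : ((Additive.toMul v : M) : G) ∈ K := by rw [e]; exact (Additive.toMul v).2
      obtain ⟨m, hm, he⟩ := this
      have h5 : m = Additive.toMul v := Subtype.ext he
      rw [h5] at hm
      exact hm
  have hgood := hlin H (Additive M) (odd_card_subgroup hG H) hIrr.isCR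
    (by rw [hn, Nat.card_congr Additive.toMul, hMcard])
  have hh := hgood.2 inferInstance
  rw [Nat.card_congr Additive.toMul, hMcard] at hh
  have hGcard : Nat.card G = p ^ d * Nat.card H := by rw [← hMcard, hcompl.card_mul]
  have hnodd : Odd (p ^ d) := by
    rw [← hMcard]; exact odd_card_subgroup hG M
  have hp3 : 3 ≤ p := by
    have h2 := hp.two_le
    rcases eq_or_ne p 2 with rfl | h
    · exact absurd hnodd (Nat.not_odd_iff_even.2 (Even.pow_of_ne_zero even_two hd.ne'))
    · omega
  -- fixed points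
  have hfixH : ∀ h ∈ H, h ≠ 1 → p * Nat.card {x : Ω // h • x = x} ≤ p ^ d := by
    intro h hh' hne
    set U := M ⊓ Subgroup.centralizer ({h} : Set G) with hU
    have hUM : U < M := lt_of_le_of_ne inf_le_left fun e => hne (by
      have : h ∈ H ⊓ Subgroup.centralizer (M : Set G) := by
        refine ⟨hh', Subgroup.mem_centralizer_iff.2 fun m hm => ?_⟩
        have hm' : m ∈ U := e.symm ▸ hm
        exact Subgroup.mem_centralizer_singleton_iff.1 hm'.2
      rw [hfaith, Subgroup.mem_bot] at this
      exact this)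
    have hle : Nat.card {x : Ω // h • x = x} ≤ Nat.card U := by
      refine Nat.card_le_card_of_surjective (fun u : U => (⟨(u : G) • ω, ?_⟩ : {x : Ω // h • x = x})) ?_
      · rw [← mul_smul, ← Subgroup.mem_centralizer_singleton_iff.1 u.2.2, mul_smul,
          MulAction.mem_stabilizer_iff.1 hh']
      · rintro ⟨x, hx⟩
        obtain ⟨m, hm⟩ := hbij.2 x
        simp only at hm
        subst hm
        have hc : h * (m : G) * h⁻¹ = m := by
          have h1 : (⟨h * (m : G) * h⁻¹, hMn.conj_mem _ m.2 _⟩ : M) = m := hbij.1 (by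
            show (h * (m : G) * h⁻¹) • ω = (m : G) • ω
            rw [mul_smul, inv_smul_eq_iff.2 (MulAction.mem_stabilizer_iff.1 hh').symm, mul_smul, hx])
          exact congrArg Subtype.val h1
        exact ⟨⟨m, m.2, Subgroup.mem_centralizer_singleton_iff.2 (mul_inv_eq_iff_eq_mul.1 hc).symm⟩, rfl⟩
    obtain ⟨i, hi, hUcard⟩ : ∃ i < d, Nat.card U = p ^ i := by
      obtain ⟨i, hi, he⟩ := (Nat.dvd_prime_pow hp).1 (hMcard ▸ Subgroup.card_dvd_of_le hUM.le)
      refine ⟨i, lt_of_le_of_ne hi fun e => hUM.ne ?_, he⟩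
      exact Subgroup.eq_of_le_of_card_ge hUM.le (by rw [he, e, hMcard])
    calc p * Nat.card {x : Ω // h • x = x} ≤ p * p ^ i := Nat.mul_le_mul_left _ (hle.trans hUcard.le)
      _ = p ^ (i + 1) := by ring
      _ ≤ p ^ d := Nat.pow_le_pow_right hp.pos hi
  have hfix : ∀ g : G, g ≠ 1 → p * Nat.card {x : Ω // g • x = x} ≤ p ^ d := by
    intro g hg
    rcases isEmpty_or_nonempty {x : Ω // g • x = x} with h0 | ⟨⟨x, hx⟩⟩
    · simp
    obtain ⟨t, rfl⟩ := MulAction.exists_smul_eq G ω x
    have hmem : t⁻¹ * g * t ∈ H := by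
      rw [MulAction.mem_stabilizer_iff, mul_smul, mul_smul, hx, inv_smul_smul]
    refine le_trans (le_of_eq ?_) (hfixH _ hmem fun e => hg (conj_eq_one_iff.1
      (show t⁻¹ * g * (t⁻¹)⁻¹ = 1 by rw [inv_inv]; exact e)))
    congr 1
    refine Nat.card_congr ((MulAction.toPerm t⁻¹).subtypeEquiv fun y => ?_)
    simp [mul_smul]
  have hh2 : d = 1 → 2 * Nat.card H ≤ p - 1 := by
    intro h1
    rw [h1, pow_one] at hMcard
    haveI := Fact.mk hp
    haveI : IsCyclic M := isCyclic_of_prime_card hMcard
    have hinj : Function.Injective ψ := fun a b hab => by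
      refine FaithfulSMul.eq_of_smul_eq_smul (α := Additive M) fun v => ?_
      exact congrArg (fun e : MulAut M => Additive.ofMul (e (Additive.toMul v))) hab
    have hdvd := Subgroup.card_dvd_of_injective ψ hinj
    rw [IsCyclic.card_mulAut, hMcard, Nat.totient_prime hp] at hdvd
    obtain ⟨k, hk⟩ := hdvd
    have hho := odd_card_subgroup hG H
    have hev : Even (p - 1) := Nat.Prime.even_sub_one hp (by omega)
    rw [hk, Nat.even_mul] at hev
    have hk2 : Even k := hev.resolve_left (Nat.not_even_iff_odd.2 hho)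
    rcases Nat.eq_zero_or_pos k with rfl | hkpos
    · rw [mul_zero] at hk; omega
    · obtain ⟨j, rfl⟩ := hk2
      rw [hk]
      calc 2 * Nat.card H = Nat.card H * 2 := mul_comm _ _
        _ ≤ Nat.card H * (j + j) := Nat.mul_le_mul_left _ (by omega)
  have hn9 : p ^ d ≠ 9 := by
    intro h9
    have hd2 : p = 3 ∧ d = 2 := by
      have hp' : p = 3 := by
        have : p ∣ 9 := h9 ▸ dvd_pow_self p hd.ne'
        have : p ∣ 3 := hp.dvd_of_dvd_pow (show p ∣ 3 ^ 2 by simpa using this)
        exact (Nat.prime_dvd_prime_iff_eq hp Nat.prime_three).1 this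
      exact ⟨hp', Nat.pow_right_injective (le_refl 2 |>.trans (by omega : 2 ≤ p)) (show p ^ d = p ^ 2 by rw [h9, hp']; all_goals norm_num)⟩
    obtain ⟨rfl, rfl⟩ := hd2
    haveI : Fact (Nat.Prime 3) := ⟨Nat.prime_three⟩
    have hH3 : IsPGroup 3 H := by
      refine IsPGroup.of_card (n := (Nat.card H).primeFactorsList.length)
        (Nat.eq_prime_pow_of_unique_prime_dvd (Nat.card_pos.ne') fun {q} hq hqd => ?_)
      haveI := Fact.mk hq
      obtain ⟨x, hx⟩ := exists_prime_orderOf_dvd_card' q hqd
      set C : Subgroup H := Subgroup.zpowers x with hC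
      have hCp : IsPGroup q C := IsPGroup.of_card (n := 1) (by rw [Nat.card_zpowers, hx, pow_one])
      have hmod := hCp.card_modEq_card_fixedPoints (Additive M)
      rw [Nat.card_congr Additive.toMul, hMcard] at hmod
      let U : AddSubgroup (Additive M) :=
        { carrier := MulAction.fixedPoints C (Additive M)
          add_mem' := fun {a b} ha hb c => by
            show (c : H) • (a + b) = a + b
            rw [smul_add, show (c : H) • a = a from ha c, show (c : H) • b = b from hb c]
          zero_mem' := fun c => smul_zero (c : H)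
          neg_mem' := fun {a} ha c => by
            show (c : H) • (-a) = -a
            rw [smul_neg, show (c : H) • a = a from ha c] }
      have hUcard : Nat.card U = Nat.card (MulAction.fixedPoints C (Additive M)) := rfl
      rw [← hUcard] at hmod
      have hUd : Nat.card U ∣ 3 ^ 2 := by
        rw [← hMcard, ← Nat.card_congr Additive.toMul]
        exact U.card_addSubgroup_dvd_card
      have hq2 : q ≠ 2 := fun e => by
        have := odd_card_of_dvd (odd_card_subgroup hG H) hqd
        rw [e] at this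
        norm_num at this
      obtain ⟨i, hi, he⟩ := (Nat.dvd_prime_pow Nat.prime_three).1 hUd
      rw [he] at hmod
      interval_cases i
      · have h8 : q ∣ 2 ^ 3 := by
          have := (Nat.modEq_iff_dvd' (by norm_num)).1 hmod.symm
          norm_num at this ⊢
          exact this
        exact absurd ((Nat.prime_dvd_prime_iff_eq hq Nat.prime_two).1 (hq.dvd_of_dvd_pow h8)) hq2
      · have h6 : q ∣ 2 * 3 := by
          have := (Nat.modEq_iff_dvd' (by norm_num)).1 hmod.symm
          norm_num at this ⊢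
          exact this
        rcases hq.dvd_mul.1 h6 with h' | h'
        · exact absurd ((Nat.prime_dvd_prime_iff_eq hq Nat.prime_two).1 h') hq2
        · exact (Nat.prime_dvd_prime_iff_eq hq Nat.prime_three).1 h'
      · exfalso
        have hUtop : U = ⊤ := AddSubgroup.eq_top_of_card_eq _ (by
          rw [he, Nat.card_congr Additive.toMul, hMcard])
        have hx1 : x = 1 := FaithfulSMul.eq_of_smul_eq_smul (α := Additive M) fun v => by
          rw [one_smul]
          exact (show v ∈ U by rw [hUtop]; trivial) ⟨x, Subgroup.mem_zpowers x⟩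
        rw [hx1, orderOf_one] at hx
        exact hq.one_lt.ne hx
    have hcard0 : 3 ∣ Nat.card (Additive M) := by
      rw [Nat.card_congr Additive.toMul, hMcard]; norm_num
    obtain ⟨v, hv, hv0⟩ := hH3.exists_fixed_point_of_prime_dvd_card_of_fixed_point (Additive M) hcard0
      (a := (0 : Additive M)) (fun h => smul_zero h)
    let L : AddSubgroup (Additive M) := AddSubgroup.zmultiples v
    have hLinv : ∀ a : H, ∀ w ∈ L, a • w ∈ L := by
      rintro a _ ⟨k, rfl⟩
      have : a • (k • v) = k • v := by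
        rw [show a • (k • v) = k • (a • v) from map_zsmul (DistribSMul.toAddMonoidHom (Additive M) a) k v,
          show a • v = v from hv a]
      show a • (k • v) ∈ L
      rw [this]
      exact ⟨k, rfl⟩
    rcases hIrr.2 L hLinv with e | e
    · exact hv0 (by
        have : v ∈ L := AddSubgroup.mem_zmultiples v
        rw [e, AddSubgroup.mem_bot] at this
        exact this.symm)
    · have : IsAddCyclic (Additive M) := ⟨⟨v, fun w => (show w ∈ L by rw [e]; trivial)⟩⟩
      haveI : IsCyclic M := isAddCyclic_additive_iff.1 this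
      have hord : ∀ m : M, m ^ 3 = 1 := by
        intro m
        obtain ⟨hc, q, hq, hpow⟩ := Coprime.minimal_normal_solvable hM hmin'
        have hq3 : q = 3 := by
          obtain ⟨m', hm'⟩ := exists_prime_orderOf_dvd_card' 3 (show 3 ∣ Nat.card M by rw [hMcard]; norm_num)
          have := orderOf_dvd_of_pow_eq_one (Subtype.ext (by simpa using hpow m' m'.2) : m' ^ q = 1)
          rw [hm'] at this
          exact ((Nat.prime_dvd_prime_iff_eq Nat.prime_three hq).1 this).symm
        exact Subtype.ext (by simpa [hq3] using hpow m m.2)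
      have hexp : Monoid.exponent M ∣ 3 := Monoid.exponent_dvd_of_forall_pow_eq_one hord
      rw [IsCyclic.exponent_eq_card, hMcard] at hexp
      norm_num at hexp
  refine ⟨?_, fun _ => ?_⟩
  · have key : ∀ c : ℕ, 3 * c ≤ p ^ d + 2 * (p ^ d / p) →
        (Nat.card G - 1) * 2 ^ c < 2 * 2 ^ (p ^ d) := by
      intro c hc
      rw [hGcard]
      have hdiv : p * (p ^ d / p) = p ^ d := Nat.mul_div_cancel' (dvd_pow_self p hd.ne')
      rcases eq_or_lt_of_le (Nat.succ_le_of_lt hd) with h1 | h2
      · have h1 : d = 1 := h1.symm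
        subst h1
        simp only [pow_one] at hc hdiv ⊢
        rw [Nat.div_self hp.pos] at hc
        exact count_prime hp3 (hh2 rfl) (by omega) (by simpa using hnodd)
      · have h9 : 9 ≤ p ^ d := le_trans (Nat.pow_le_pow_left hp3 2) (Nat.pow_le_pow_right hp.pos h2)
        have hcases : 27 ≤ p ^ d ∨ p ^ d = 25 := by
          rcases Nat.lt_or_ge (p ^ d) 27 with hlt | hge
          · have hp5 : p ≤ 5 := by
              by_contra hp6
              have := (Nat.pow_le_pow_left (show 6 ≤ p by omega) 2).trans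
                (Nat.pow_le_pow_right hp.pos h2)
              omega
            interval_cases p
            · rcases eq_or_lt_of_le (show 2 ≤ d from h2) with rfl | h3
              · exact absurd (by norm_num) hn9
              · have := Nat.pow_le_pow_right (show 1 ≤ 3 by norm_num) (show 3 ≤ d from h3)
                omega
            · exact absurd hp (by norm_num)
            · rcases eq_or_lt_of_le (show 2 ≤ d from h2) with rfl | h3
              · exact Or.inr (by norm_num)
              · have := Nat.pow_le_pow_right (show 1 ≤ 5 by norm_num) (show 3 ≤ d from h3)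
                omega
          · exact Or.inl hge
        have h3le : 3 * (p ^ d / p) ≤ p ^ d := (Nat.mul_le_mul_right _ hp3).trans hdiv.le
        refine count_power hcases hh (by omega) fun e25 => ?_
        have hp5 : p = 5 := by
          have : p ∣ 5 ^ 2 := by
            have := dvd_pow_self p hd.ne'
            rw [e25] at this
            simpa using this
          exact (Nat.prime_dvd_prime_iff_eq hp (by norm_num)).1 (hp.dvd_of_dvd_pow this)
        rw [hp5] at hdiv hc e25
        omega
    have hA : ∀ g : G, g ≠ 1 → Nat.card {S : Set Ω // g • S = S} ≤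
        2 ^ ((p ^ d + 2 * (p ^ d / p)) / 3) := by
      intro g hg
      obtain ⟨c, hc, hle⟩ := exists_orbit_bound (G := G) (Ω := Ω) (g := g)
        (odd_card_of_dvd hG (orderOf_dvd_natCard g))
      refine hle.trans (Nat.pow_le_pow_right (by norm_num) ?_)
      have h1 := hfix g hg
      have : Nat.card {x : Ω // g • x = x} ≤ p ^ d / p :=
        (Nat.le_div_iff_mul_le hp.pos).2 (by rwa [mul_comm])
      rw [Nat.le_div_iff_mul_le (by norm_num)]
      rw [hn] at hc
      omega
    have hB : (Nat.card G - 1) * 2 ^ ((p ^ d + 2 * (p ^ d / p)) / 3) < 2 * Nat.card (Set Ω) := by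
      have := Fintype.ofFinite Ω
      have e : Nat.card (Set Ω) = 2 ^ (p ^ d) := by
        rw [Nat.card_eq_fintype_card, Fintype.card_set, ← Nat.card_eq_fintype_card, hn]
      rw [e]
      exact key _ (Nat.mul_div_le _ _)
    exact exists_free_point (G := G) (X := Set Ω) hG _ hA hB
  · rw [hGcard, hn]
    rcases eq_or_lt_of_le (Nat.succ_le_of_lt hd) with h1 | h2
    · have h2 := hh2 h1.symm
      rw [← h1, pow_one]
      have h3 := cube_le_three_pow hp3
      have h4 : 2 * (3 * (p * Nat.card H)) ≤ 3 * (p * p) := by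
        calc 2 * (3 * (p * Nat.card H)) = 3 * (p * (2 * Nat.card H)) := by ring
          _ ≤ 3 * (p * p) := Nat.mul_le_mul_left _ (Nat.mul_le_mul_left _ (by omega))
      have h5 : 3 * (p * p) ≤ p ^ 3 := by
        calc 3 * (p * p) ≤ p * (p * p) := Nat.mul_le_mul_right _ hp3
          _ = p ^ 3 := by ring
      omega
    · calc 3 * (p ^ d * Nat.card H) = p ^ d * (3 * Nat.card H) := by ring
        _ ≤ p ^ d * (p ^ d) ^ 2 := Nat.mul_le_mul_left _ hh
        _ = (p ^ d) ^ 3 := by ring
        _ ≤ 3 ^ (p ^ d) := cube_le_three_pow (hp3.trans (Nat.le_self_pow hd.ne' p))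

end CfsgLib.Char.OddBase
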