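import Cfsg.Agent.Lib.Char.OddBase.Setup
import Cfsg.Agent.Lib.Char.OddBase.Pairing
import Cfsg.Agent.Lib.Char.OddBase.Arith
import Cfsg.Agent.Lib.Char.OddBase.Fixed

/-!
# The primitive case
-/

set_option autoImplicit false
set_option linter.unusedSectionVars false
set_option linter.style.haveILetI false

namespace CfsgLib.Char.OddBase

open scoped commutatorElement

universe u

theorem semilinear_bound {Q a : ℕ} (ha : Odd a) (h : 2 ^ a ≤ Q) : 3 * ((Q - 1) * a) ≤ Q ^ 2 := by
  obtain ⟨k, rfl⟩ := ha
  obtain ⟨t, rfl⟩ : ∃ t, Q = t + 1 := ⟨Q - 1,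
    (Nat.sub_add_cancel (le_trans Nat.one_le_two_pow h)).symm⟩
  simp only [Nat.add_sub_cancel]
  rcases Nat.eq_zero_or_pos k with rfl | hk
  · zify; nlinarith [sq_nonneg ((t : ℤ) - 1)]
  · rcases eq_or_lt_of_le (Nat.succ_le_of_lt hk) with h1 | h2
    · have : k = 1 := h1.symm
      subst this
      norm_num at h
      nlinarith
    · have h3 : ∀ n, 5 ≤ n → 3 * n ≤ 2 ^ n := by
        intro n hn
        induction n, hn using Nat.le_induction with
        | base => norm_num
        | succ n hn ih => rw [pow_succ]; omega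
      have h4 := (h3 (2 * k + 1) (by omega)).trans h
      calc 3 * (t * (2 * k + 1)) = t * (3 * (2 * k + 1)) := by ring
        _ ≤ (t + 1) * (t + 1) := Nat.mul_le_mul (by omega) h4
        _ = (t + 1) ^ 2 := by ring

variable {A V : Type u} [Group A] [Finite A] [AddCommGroup V] [Finite V] [DistribMulAction A V]
  [FaithfulSMul A V]

/-- The case in which `N` is its own centralizer. -/
theorem good_semilinear (hA : Odd (Nat.card A)) (hirr : IsIrr A V) (hprim : IsEmpty (System A V))
    (N : Subgroup A) [N.Normal] (hab : ∀ x ∈ N, ∀ y ∈ N, x * y = y * x)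
    (hCN : Subgroup.centralizer (N : Set A) ≤ N) : Good A V := by
  classical
  haveI := hirr.1
  obtain ⟨p, m, hp, hQ, ham⟩ := index_centralizer_le hirr hprim N hab
  obtain ⟨hdvd, hcyc⟩ := card_dvd_units hirr hprim N hab
  obtain ⟨v₀, hv₀⟩ := exists_ne (0 : V)
  obtain ⟨n₀, hn₀⟩ := hcyc.exists_generator
  refine ⟨⟨v₀, (n₀ : A) • v₀, fun a h1 h2 => ?_⟩, fun _ => ?_⟩
  · have hmem : (n₀ : A)⁻¹ * (a * n₀ * a⁻¹) ∈ N :=
      mul_mem (inv_mem n₀.2) ((inferInstance : N.Normal).conj_mem _ n₀.2 a)
    have hfix : ((n₀ : A)⁻¹ * (a * n₀ * a⁻¹)) • v₀ = v₀ := by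
      rw [mul_smul, mul_smul, inv_smul_eq_iff.2 h1.symm, mul_smul, h2, inv_smul_smul]
    have hone : (n₀ : A)⁻¹ * (a * n₀ * a⁻¹) = 1 := by
      by_contra h
      exact hv₀ (fixed_eq_zero hirr hprim N hab hmem h hfix)
    have hc : a * n₀ = (n₀ : A) * a := by
      have := eq_of_inv_mul_eq_one hone
      rw [← mul_inv_eq_iff_eq_mul]
      exact this.symm
    have haC : a ∈ Subgroup.centralizer (N : Set A) := by
      refine Subgroup.mem_centralizer_iff.2 fun n hn => ?_
      obtain ⟨k, hk⟩ := Subgroup.mem_zpowers_iff.1 (hn₀ ⟨n, hn⟩)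
      have e : ((n₀ : A)) ^ k = n := by rw [← Subgroup.coe_zpow, hk]
      rw [← e]
      exact ((show Commute a (n₀ : A) from hc).zpow_right k).eq.symm
    by_contra ha1
    exact hv₀ (fixed_eq_zero hirr hprim N hab (hCN haC) ha1 h1)
  · set K := gen (V := V) N
    haveI : Finite K := Subtype.finite
    have hKV : Nat.card K ≤ Nat.card V := by
      refine Nat.card_le_card_of_injective (fun z : K => z.1 v₀) fun x y e => ?_
      by_contra hne
      obtain ⟨w, hw⟩ := (gen_isField hirr hprim N hab).mul_inv_cancel (sub_ne_zero.2 hne)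
      rw [(gen_isField hirr hprim N hab).mul_comm] at hw
      have := DFunLike.congr_fun (congrArg Subtype.val hw) v₀
      change w.1 (x.1 v₀ - y.1 v₀) = v₀ at this
      rw [show x.1 v₀ = y.1 v₀ from e, sub_self, map_zero] at this
      exact hv₀ this.symm
    have hNC : N ≤ Subgroup.centralizer (N : Set A) := fun x hx =>
      Subgroup.mem_centralizer_iff.2 fun y hy => hab y hy x hx
    have hcard := Subgroup.card_mul_index (Subgroup.centralizer (N : Set A))
    rw [le_antisymm hCN hNC] at hcard ham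
    have haodd : Odd N.index := odd_card_of_dvd hA N.index_dvd_card
    have h2a : 2 ^ N.index ≤ Nat.card K := by
      rw [hQ]
      exact (Nat.pow_le_pow_left hp.two_le _).trans (Nat.pow_le_pow_right hp.pos ham)
    have hNle : Nat.card N ≤ Nat.card K - 1 := by
      refine Nat.le_of_dvd ?_ hdvd
      have := Nat.one_lt_two_pow (n := N.index) (by
        obtain ⟨k, hk⟩ := haodd; omega)
      omega
    calc 3 * Nat.card A = 3 * (Nat.card N * N.index) := by rw [hcard]
      _ ≤ 3 * ((Nat.card K - 1) * N.index) :=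
          Nat.mul_le_mul_left _ (Nat.mul_le_mul_right _ hNle)
      _ ≤ Nat.card K ^ 2 := semilinear_bound haodd h2a
      _ ≤ Nat.card V ^ 2 := Nat.pow_le_pow_left hKV 2

/-- The primitive case. -/
theorem good_primitive (hA : Odd (Nat.card A)) (hirr : IsIrr A V) (hprim : IsEmpty (System A V))
    {L : ℕ} (hlin : LinBelow.{u} L) (hL : Nat.card V ≤ L + 1) : Good A V := by
  classical
  haveI : Group.IsSolvable A := CfsgLib.FT.isSolvable_of_odd A hA
  haveI := hirr.1
  obtain ⟨N, D, hN, hD, hab, hmax, hND, hDC, hDD, hCCD⟩ := exists_series (A := A)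
  haveI := hN
  haveI := hD
  set C := Subgroup.centralizer (N : Set A) with hCdef
  have hNC : N ≤ C := fun x hx => Subgroup.mem_centralizer_iff.2 fun y hy => hab y hy x hx
  haveI hCn : C.Normal := Subgroup.normal_centralizer
  have hcN : ∀ c ∈ C, ∀ n ∈ N, Commute c n := fun c hc n hn =>
    (Subgroup.mem_centralizer_iff.1 hc n hn).symm
  by_cases hDN : D ≤ N
  · refine good_semilinear hA hirr hprim N hab fun x hx => hCCD ⟨hx, ?_⟩
    exact Subgroup.mem_centralizer_iff.2 fun d hd => ((hcN x hx d (hDN hd)).eq).symm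
  obtain ⟨p, m, hp, hQ, ham⟩ := index_centralizer_le hirr hprim N hab
  obtain ⟨hdvdN, -⟩ := card_dvd_units hirr hprim N hab
  set K := gen (V := V) N with hKdef
  letI : Field K := (gen_isField hirr hprim N hab).toField
  haveI : Finite K := Subtype.finite
  have hQ2 : 2 ≤ Nat.card K := Finite.one_lt_card
  -- the quotient `M = D / N`
  let N' : Subgroup D := N.subgroupOf D
  haveI : N'.Normal := (inferInstance : N.Normal).subgroupOf D
  have hcommD : ∀ x ∈ D, ∀ y ∈ D, ⁅x, y⁆ ∈ N := fun x hx y hy =>
    hDD (Subgroup.commutator_mem_commutator hx hy)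
  letI : CommGroup (D ⧸ N') :=
    { (inferInstance : Group (D ⧸ N')) with
      mul_comm := by
        intro a b
        induction a using QuotientGroup.induction_on with
        | _ x =>
        induction b using QuotientGroup.induction_on with
        | _ y =>
        refine (QuotientGroup.eq).2 (Subgroup.mem_subgroupOf.2 ?_)
        show ((x : A) * y)⁻¹ * ((y : A) * x) ∈ N
        have e : ((x : A) * y)⁻¹ * ((y : A) * x) = ⁅(y : A)⁻¹, (x : A)⁻¹⁆ := by
          rw [commutatorElement_def]; group
        rw [e]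
        exact hcommD _ (inv_mem y.2) _ (inv_mem x.2) }
  -- characters
  let ψ : N →* Kˣ := MonoidHom.toHomUnits
    { toFun := fun n => (⟨toEnd (n : A), toEnd_mem_gen n.2⟩ : K)
      map_one' := Subtype.ext (map_one toEnd)
      map_mul' := fun a b => Subtype.ext (map_mul toEnd (a : A) b) }
  have hψ : Function.Injective ψ := fun a b h =>
    Subtype.ext (toEnd_injective (congrArg (fun z : Kˣ => ((z : K) : AddMonoid.End V)) h))
  let X : Subgroup A :=
    { carrier := {c | c ∈ C ∧ ∀ d ∈ D, ⁅c, d⁆ ∈ N}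
      one_mem' := ⟨one_mem C, fun d _ => by rw [commutatorElement_one_left]; exact one_mem N⟩
      mul_mem' := fun {a b} ha hb => ⟨mul_mem ha.1 hb.1, fun d hd => by
        have e : ⁅a * b, d⁆ = a * ⁅b, d⁆ * a⁻¹ * ⁅a, d⁆ := by
          simp only [commutatorElement_def]; group
        rw [e]
        exact mul_mem (hN.conj_mem _ (hb.2 d hd) a) (ha.2 d hd)⟩
      inv_mem' := fun {a} ha => ⟨inv_mem ha.1, fun d hd => by
        have e : ⁅a⁻¹, d⁆ = a⁻¹ * ⁅a, d⁆⁻¹ * a⁻¹⁻¹ := by
          simp only [commutatorElement_def]; group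
        rw [e]
        exact hN.conj_mem _ (inv_mem (ha.2 d hd)) a⁻¹⟩ }
  have hDX : D ≤ X := fun d hd => ⟨hDC hd, fun e he => hcommD d hd e he⟩
  have hmulr : ∀ (c : X) (x y : D),
      ⁅(c : A), (x : A) * y⁆ = ⁅(c : A), (x : A)⁆ * ⁅(c : A), (y : A)⁆ := by
    intro c x y
    have e : ⁅(c : A), (x : A) * y⁆ = ⁅(c : A), (x : A)⁆ * ((x : A) * ⁅(c : A), (y : A)⁆ * (x : A)⁻¹) := by
      simp only [commutatorElement_def]; group
    rw [e, (hcN x (hDC x.2) _ (c.2.2 y y.2)).eq, mul_inv_cancel_right]
  have hmull : ∀ (c e : X) (x : D),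
      ⁅(c : A) * e, (x : A)⁆ = ⁅(c : A), (x : A)⁆ * ⁅(e : A), (x : A)⁆ := by
    intro c e x
    have h : ⁅(c : A) * e, (x : A)⁆ = (c : A) * ⁅(e : A), (x : A)⁆ * (c : A)⁻¹ * ⁅(c : A), (x : A)⁆ := by
      simp only [commutatorElement_def]; group
    rw [h, (hcN c c.2.1 _ (e.2.2 x x.2)).eq, mul_inv_cancel_right]
    exact hab _ (e.2.2 x x.2) _ (c.2.2 x x.2)
  have hcn1 : ∀ (c : X), ∀ n ∈ N, ⁅(c : A), n⁆ = 1 := fun c n hn =>
    commutatorElement_eq_one_iff_mul_comm.2 (hcN c c.2.1 n hn).eq
  let χ : X → (D →* Kˣ) := fun c =>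
    { toFun := fun x => ψ ⟨⁅(c : A), (x : A)⁆, c.2.2 x x.2⟩
      map_one' := by
        rw [show (⟨⁅(c : A), ((1 : D) : A)⁆, c.2.2 _ (1 : D).2⟩ : N) = 1 from
          Subtype.ext (commutatorElement_one_right _), map_one]
      map_mul' := fun x y => by
        rw [← map_mul]
        exact congrArg ψ (Subtype.ext (hmulr c x y)) }
  have hχker : ∀ c : X, N' ≤ (χ c).ker := fun c x hx => MonoidHom.mem_ker.2 (by
    show ψ _ = 1
    rw [show (⟨⁅(c : A), (x : A)⁆, c.2.2 x x.2⟩ : N) = 1 from
      Subtype.ext (hcn1 c x (Subgroup.mem_subgroupOf.1 hx)), map_one])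
  let Φ : X →* (D ⧸ N' →* Kˣ) :=
    { toFun := fun c => QuotientGroup.lift N' (χ c) (hχker c)
      map_one' := by
        refine MonoidHom.ext fun q => ?_
        induction q using QuotientGroup.induction_on with
        | _ x =>
        show ψ _ = 1
        rw [show (⟨⁅((1 : X) : A), (x : A)⁆, (1 : X).2.2 x x.2⟩ : N) = 1 from
          Subtype.ext (commutatorElement_one_left _), map_one]
      map_mul' := fun c e => by
        refine MonoidHom.ext fun q => ?_
        induction q using QuotientGroup.induction_on with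
        | _ x =>
        show ψ _ = ψ _ * ψ _
        rw [← map_mul]
        exact congrArg ψ (Subtype.ext (hmull c e x)) }
  have hΦker : Φ.ker ≤ N.subgroupOf X := by
    intro c hc
    refine Subgroup.mem_subgroupOf.2 (hCCD ⟨c.2.1, Subgroup.mem_centralizer_iff.2 fun d hd => ?_⟩)
    have h1 : ψ ⟨⁅(c : A), d⁆, c.2.2 d hd⟩ = ψ 1 := by
      rw [map_one]
      exact DFunLike.congr_fun (MonoidHom.mem_ker.1 hc) (QuotientGroup.mk (⟨d, hd⟩ : D))
    exact (commutatorElement_eq_one_iff_mul_comm.1 (congrArg Subtype.val (hψ h1))).symm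
  haveI : Finite (D ⧸ N') := Quotient.finite _
  have hDN' : Nat.card D = Nat.card (D ⧸ N') * Nat.card N := by
    rw [Subgroup.card_eq_card_quotient_mul_card_subgroup N',
      Nat.card_congr (Subgroup.subgroupOfEquivOfLe hND).toEquiv]
  have hXD : X = D := by
    refine (Subgroup.eq_of_le_of_card_ge hDX ?_).symm
    rw [← Φ.ker.card_mul_index, Subgroup.index_ker, hDN', mul_comm]
    refine Nat.mul_le_mul ((Nat.card_le_card_of_injective _ Subtype.val_injective).trans
      card_monoidHom_units_le) ?_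
    refine (Subgroup.card_le_of_le hΦker).trans ?_
    exact (Nat.card_congr (Subgroup.subgroupOfEquivOfLe (hND.trans hDX)).toEquiv).le
  have hker0 : N' ≤ (Φ.comp (Subgroup.inclusion hDX)).ker := fun x hx => MonoidHom.mem_ker.2 (by
    refine MonoidHom.ext fun q => ?_
    induction q using QuotientGroup.induction_on with
    | _ y =>
    show ψ _ = 1
    rw [show (⟨⁅(((Subgroup.inclusion hDX) x : X) : A), (y : A)⁆,
        ((Subgroup.inclusion hDX) x).2.2 y y.2⟩ : N) = 1 from Subtype.ext (by
      show ⁅(x : A), (y : A)⁆ = 1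
      exact commutatorElement_eq_one_iff_mul_comm.2
        (hcN y (hDC y.2) x (Subgroup.mem_subgroupOf.1 hx)).eq.symm), map_one])
  let β : D ⧸ N' →* (D ⧸ N' →* Kˣ) := QuotientGroup.lift N' (Φ.comp (Subgroup.inclusion hDX)) hker0
  have hβmk : ∀ x y : D, β (QuotientGroup.mk x) (QuotientGroup.mk y) =
      ψ ⟨⁅(x : A), (y : A)⁆, hcommD x x.2 y y.2⟩ := fun x y => rfl
  have halt : ∀ q, β q q = 1 := by
    intro q
    induction q using QuotientGroup.induction_on with
    | _ x =>
    rw [hβmk, show (⟨⁅(x : A), (x : A)⁆, hcommD x x.2 x x.2⟩ : N) = 1 from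
      Subtype.ext (commutatorElement_self _), map_one]
  have hβinj : Function.Injective β := by
    rw [injective_iff_map_eq_one]
    intro q hq
    induction q using QuotientGroup.induction_on with
    | _ x =>
    have h1 := hΦker (MonoidHom.mem_ker.2 (show Φ (Subgroup.inclusion hDX x) = 1 from hq))
    exact (QuotientGroup.eq_one_iff x).2 (Subgroup.mem_subgroupOf.2 (Subgroup.mem_subgroupOf.1 h1))
  have hβone : ∀ x y : D, β (QuotientGroup.mk x) (QuotientGroup.mk y) = 1 ↔ ⁅(x : A), (y : A)⁆ = 1 := by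
    intro x y
    rw [hβmk, ← map_one ψ, hψ.eq_iff]
    exact ⟨fun h => congrArg Subtype.val h, fun h => Subtype.ext h⟩
  obtain ⟨s, hs⟩ := exists_sq_of_alternating β halt hβinj
  -- the action of `A` on `M`
  have hNmap : ∀ a : A, N' ≤ N'.comap (MulAut.conjNormal (H := D) a).toMonoidHom := by
    intro a x hx
    rw [Subgroup.mem_comap, Subgroup.mem_subgroupOf]
    show ((MulAut.conjNormal a x : D) : A) ∈ N
    rw [MulAut.conjNormal_apply]
    exact hN.conj_mem _ (Subgroup.mem_subgroupOf.1 hx) a
  let θ : A → (D ⧸ N' →* D ⧸ N') := fun a => QuotientGroup.map N' N' _ (hNmap a)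
  have hθmk : ∀ (a : A) (x : D), θ a (QuotientGroup.mk x) = QuotientGroup.mk (MulAut.conjNormal a x) :=
    fun a x => rfl
  have hθ1 : θ 1 = MonoidHom.id _ := by
    refine MonoidHom.ext fun q => ?_
    induction q using QuotientGroup.induction_on with
    | _ x => rw [hθmk, map_one]; rfl
  have hθmul : ∀ a b, θ (a * b) = (θ a).comp (θ b) := fun a b => by
    refine MonoidHom.ext fun q => ?_
    induction q using QuotientGroup.induction_on with
    | _ x => rw [hθmk, map_mul]; rfl
  let E0 : A →* AddMonoid.End (Additive (D ⧸ N')) :=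
    { toFun := fun a => MonoidHom.toAdditive (θ a)
      map_one' := by rw [hθ1]; rfl
      map_mul' := fun a b => by rw [hθmul]; rfl }
  set G := E0.toHomUnits.range with hG
  haveI : Finite (Additive (D ⧸ N')) := Finite.of_equiv (D ⧸ N') Additive.ofMul
  haveI : Finite G := Finite.of_surjective _ E0.toHomUnits.rangeRestrict_surjective
  have hact : ∀ (a : A) (x : D),
      (⟨E0.toHomUnits a, a, rfl⟩ : G) • Additive.ofMul (QuotientGroup.mk x : D ⧸ N') =
        Additive.ofMul (QuotientGroup.mk (MulAut.conjNormal a x)) := fun a x => rfl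
  have hψconj : ∀ (a : A) (x y : D),
      ⁅(x : A), (y : A)⁆ = 1 ↔ ⁅((MulAut.conjNormal a x : D) : A), ((MulAut.conjNormal a y : D) : A)⁆ = 1 := by
    intro a x y
    rw [MulAut.conjNormal_apply, MulAut.conjNormal_apply]
    have e : ⁅a * (x : A) * a⁻¹, a * (y : A) * a⁻¹⁆ = a * ⁅(x : A), (y : A)⁆ * a⁻¹ := by
      simp only [commutatorElement_def]; group
    rw [e, conj_eq_one_iff]
  have hGcr : IsCR G (Additive (D ⧸ N')) := by
    intro U hU
    let W : Subgroup (D ⧸ N') := AddSubgroup.toSubgroup' U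
    have hUθ : ∀ (a : A) (x : D), (QuotientGroup.mk x : D ⧸ N') ∈ W →
        (QuotientGroup.mk (MulAut.conjNormal a x) : D ⧸ N') ∈ W := fun a x hx =>
      hU ⟨E0.toHomUnits a, a, rfl⟩ (Additive.ofMul (QuotientGroup.mk x)) hx
    have hperp : ∀ (a : A) (x : D), (QuotientGroup.mk x : D ⧸ N') ∈ perp β W →
        (QuotientGroup.mk (MulAut.conjNormal a x) : D ⧸ N') ∈ perp β W := by
      intro a x hx q hq
      induction q using QuotientGroup.induction_on with
      | _ y =>
      have h1 := hx _ (hUθ a⁻¹ y hq)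
      rw [hβone] at h1 ⊢
      have h2 := (hψconj a _ _).1 h1
      rwa [show MulAut.conjNormal a (MulAut.conjNormal a⁻¹ y) = y by
        rw [map_inv, MulAut.apply_inv_self]] at h2
    have hdisj : W ⊓ perp β W = ⊥ := by
      let R : Subgroup A := ((W ⊓ perp β W).comap (QuotientGroup.mk' N')).map D.subtype
      have hRn : R.Normal := ⟨fun r hr a => by
        obtain ⟨x, hx, rfl⟩ := hr
        exact ⟨MulAut.conjNormal a x, Subgroup.mem_inf.2 ⟨hUθ a x hx.1, hperp a x hx.2⟩,
          MulAut.conjNormal_apply a x⟩⟩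
      have hNR : N ≤ R := fun n hn => ⟨⟨n, hND hn⟩, by
        show (QuotientGroup.mk (⟨n, hND hn⟩ : D) : D ⧸ N') ∈ W ⊓ perp β W
        rw [(QuotientGroup.eq_one_iff (N := N') (⟨n, hND hn⟩ : D)).2 (Subgroup.mem_subgroupOf.2 hn)]
        exact one_mem _, rfl⟩
      have hR := hmax R hRn (fun a ha b hb => by
        obtain ⟨x, hx, rfl⟩ := ha
        obtain ⟨y, hy, rfl⟩ := hb
        exact commutatorElement_eq_one_iff_mul_comm.1 ((hβone x y).1 (hx.2 _ hy.1))) hNR
      refine (Subgroup.eq_bot_iff_forall _).2 fun q hq => ?_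
      induction q using QuotientGroup.induction_on with
      | _ x =>
      have : (x : A) ∈ R := ⟨x, hq, rfl⟩
      rw [hR] at this
      exact (QuotientGroup.eq_one_iff x).2 (Subgroup.mem_subgroupOf.2 this)
    have hsup : W ⊔ perp β W = ⊤ := by
      refine Subgroup.eq_top_of_le_card _ (le_trans (card_le_card_mul_perp β W) ?_)
      rw [← Nat.card_prod]
      refine Nat.card_le_card_of_injective
        (fun z => (⟨(z.1 : D ⧸ N') * (z.2 : D ⧸ N'), mul_mem (Subgroup.mem_sup_left z.1.2)
          (Subgroup.mem_sup_right z.2.2)⟩ : ↥(W ⊔ perp β W))) fun z z' e => ?_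
      exact Subgroup.mul_injective_of_disjoint (disjoint_iff.2 hdisj) (congrArg Subtype.val e)
    refine ⟨Subgroup.toAddSubgroup (perp β W), ?_, ?_, ?_⟩
    · rintro ⟨_, a, rfl⟩ v hv
      obtain ⟨x, hx⟩ := QuotientGroup.mk_surjective (Additive.toMul v)
      have hv' : v = Additive.ofMul (QuotientGroup.mk x : D ⧸ N') := by rw [hx]; rfl
      have hv2 : (QuotientGroup.mk x : D ⧸ N') ∈ perp β W := by rw [hx]; exact hv
      rw [hv', hact]
      exact hperp a x hv2
    · refine (AddSubgroup.eq_bot_iff_forall _).2 fun v hv => ?_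
      have : Additive.toMul v ∈ W ⊓ perp β W := hv
      rw [hdisj, Subgroup.mem_bot] at this
      exact Additive.toMul.injective (this.trans toMul_zero.symm)
    · refine eq_top_iff.2 fun v _ => ?_
      have : Additive.toMul v ∈ W ⊔ perp β W := hsup ▸ Subgroup.mem_top _
      obtain ⟨a, ha, b, hb, hab'⟩ := Subgroup.mem_sup.1 this
      refine AddSubgroup.mem_sup.2 ⟨Additive.ofMul a, ha, Additive.ofMul b, hb, ?_⟩
      rw [← ofMul_mul, hab', ofMul_toMul]
  -- the linear independence bound
  haveI : Module.Finite K V := Module.Finite.of_finite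
  set e := Module.finrank K V with he
  have hVe : Nat.card V = Nat.card K ^ e := Module.natCard_eq_pow_finrank
  have hcardM : Nat.card (D ⧸ N') ≤ e * e := by
    let Lm : D ⧸ N' → Module.End K V := fun q =>
      { toFun := fun v => ((q.out : D) : A) • v
        map_add' := fun v w => smul_add _ v w
        map_smul' := fun z v =>
          DFunLike.congr_fun (commute_of_centralizes (hDC (q.out : D).2) z.2) v }
    have hLI : LinearIndependent K Lm := by
      have := Fintype.ofFinite (D ⧸ N')
      rw [Fintype.linearIndependent_iff]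
      intro g hg
      let f : D ⧸ N' → (D ⧸ N' →* K) := fun q => (Units.coeHom K).comp (β.flip q)
      have hfinj : Function.Injective f := fun q r h => hβinj (MonoidHom.ext fun y => by
        have h2 : β y q = β y r := Units.ext (DFunLike.congr_fun h y)
        rw [skew halt q y, skew halt r y, h2])
      have hlin' := (linearIndependent_monoidHom (D ⧸ N') K).comp f hfinj
      rw [Fintype.linearIndependent_iff] at hlin'
      intro q
      by_contra hgq
      obtain ⟨v₀, hv₀⟩ := exists_ne (0 : V)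
      set v := ((q.out : D) : A)⁻¹ • v₀ with hv
      have hne : Lm q v ≠ 0 := by
        show ((q.out : D) : A) • v ≠ 0
        rw [hv, smul_inv_smul]
        exact hv₀
      clear_value v
      refine hne ((Module.forall_dual_apply_eq_zero_iff K (Lm q v)).1 fun φ => ?_)
      have key := hlin' (fun r => g r * φ (Lm r v)) (funext fun y => by
        induction y using QuotientGroup.induction_on with
        | _ d =>
        have h0 : ∑ r, g r • Lm r (((d : A))⁻¹ • v) = 0 := by
          have := LinearMap.congr_fun hg (((d : A))⁻¹ • v)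
          simpa using this
        have h1 := congrArg (fun w => φ ((d : A) • w)) h0
        simp only [smul_zero, map_zero, Finset.smul_sum, map_sum] at h1
        rw [Finset.sum_apply, Pi.zero_apply, ← h1]
        refine Finset.sum_congr rfl fun r _ => ?_
        show g r * φ (Lm r v) • ((β (QuotientGroup.mk d) r : Kˣ) : K) =
          φ ((d : A) • g r • Lm r ((d : A)⁻¹ • v))
        have hcomm : (d : A) • g r • Lm r ((d : A)⁻¹ • v) =
            g r • (d : A) • Lm r ((d : A)⁻¹ • v) :=
          DFunLike.congr_fun (commute_of_centralizes (hDC d.2) (g r).2) (Lm r ((d : A)⁻¹ • v))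
        have hmain : (d : A) • Lm r ((d : A)⁻¹ • v) =
            ((β (QuotientGroup.mk d) r : Kˣ) : K) • Lm r v := by
          conv_rhs => arg 1; rw [← QuotientGroup.out_eq' r, hβmk]
          show (d : A) • ((r.out : D) : A) • (d : A)⁻¹ • v =
            ⁅(d : A), ((r.out : D) : A)⁆ • ((r.out : D) : A) • v
          rw [← mul_smul, ← mul_smul, ← mul_smul, commutatorElement_def]
          congr 1
          group
        rw [hcomm, hmain, φ.map_smul, φ.map_smul, smul_eq_mul, smul_eq_mul, smul_eq_mul]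
        ring) q
      exact (mul_eq_zero.1 key).resolve_left hgq
    have := Fintype.ofFinite (D ⧸ N')
    have h := hLI.fintype_card_le_finrank
    rw [Module.finrank_linearMap, ← Nat.card_eq_fintype_card] at h
    exact h
  have hsodd : Odd s := by
    have h1 : Odd (Nat.card (D ⧸ N')) :=
      odd_card_of_dvd (odd_card_subgroup hA D) (Subgroup.card_quotient_dvd_card N')
    rw [hs] at h1
    exact (Nat.odd_mul.1 h1).1
  have hs3 : 3 ≤ s := by
    obtain ⟨k, rfl⟩ := hsodd
    rcases Nat.eq_zero_or_pos k with rfl | hk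
    · exfalso
      refine hDN fun x hx => ?_
      have h1 : Nat.card (D ⧸ N') = 1 := by rw [hs]; norm_num
      haveI := (Nat.card_eq_one_iff_unique.1 h1).1
      exact Subgroup.mem_subgroupOf.1 ((QuotientGroup.eq_one_iff (N := N') (⟨x, hx⟩ : D)).1
        (Subsingleton.elim _ _))
    · omega
  have hse : s ≤ e := by
    by_contra h
    push Not at h
    have := Nat.mul_self_lt_mul_self h
    omega
  have hord : ∀ (q : D ⧸ N') (k : ℕ), q ^ k = 1 → ∀ r, (β q r) ^ k = 1 := by
    intro q k hq r
    rw [← MonoidHom.pow_apply, ← map_pow, hq, map_one, MonoidHom.one_apply]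
  have hdiv : ∀ r : ℕ, r.Prime → r ∣ s → r ∣ Nat.card K - 1 := by
    intro r hr hrs
    haveI := Fact.mk hr
    obtain ⟨q, hq⟩ := exists_prime_orderOf_dvd_card' r
      (show r ∣ Nat.card (D ⧸ N') by rw [hs]; exact hrs.trans (dvd_mul_right s s))
    obtain ⟨t, ht⟩ : ∃ t, β q t ≠ 1 := by
      by_contra hall
      push Not at hall
      have : q = 1 := hβinj (by rw [map_one]; exact MonoidHom.ext hall)
      rw [this, orderOf_one] at hq
      exact hr.ne_one hq.symm
    obtain ⟨x, rfl⟩ := QuotientGroup.mk_surjective q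
    obtain ⟨y, rfl⟩ := QuotientGroup.mk_surjective t
    have hr1 := hord _ r (by rw [← hq]; exact pow_orderOf_eq_one _) (QuotientGroup.mk y)
    rw [hβmk] at ht hr1
    have ho := orderOf_eq_prime hr1 ht
    rw [orderOf_injective ψ hψ] at ho
    exact (ho ▸ orderOf_dvd_natCard _).trans hdvdN
  have hcyc : ¬ IsAddCyclic (Additive (D ⧸ N')) := by
    intro hc
    haveI : IsCyclic (D ⧸ N') := isAddCyclic_additive_iff.1 hc
    obtain ⟨g, hg⟩ := IsCyclic.exists_generator (α := D ⧸ N')
    have h1 : g = 1 := hβinj (by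
      rw [map_one]
      refine MonoidHom.ext fun y => ?_
      obtain ⟨k, rfl⟩ := Subgroup.mem_zpowers_iff.1 (hg y)
      rw [map_zpow, halt, one_zpow, MonoidHom.one_apply])
    have h2 : Nat.card (D ⧸ N') = 1 := by
      refine Nat.card_eq_one_iff_unique.2 ⟨⟨fun a b => ?_⟩, inferInstance⟩
      obtain ⟨i, rfl⟩ := Subgroup.mem_zpowers_iff.1 (hg a)
      obtain ⟨j, rfl⟩ := Subgroup.mem_zpowers_iff.1 (hg b)
      rw [h1, one_zpow, one_zpow]
    rw [hs] at h2
    have := Nat.mul_le_mul hs3 hs3
    omega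
  let Y : Subgroup G := C.map E0.toHomUnits.rangeRestrict
  haveI : Y.Normal := hCn.map _ E0.toHomUnits.rangeRestrict_surjective
  have hGodd : Odd (Nat.card G) := odd_card_of_dvd hA (Subgroup.card_range_dvd _)
  have hY13 : Nat.card (Additive (D ⧸ N')) = 81 → ∀ y ∈ Y, orderOf y ≠ 13 := by
    intro h81' y hy hy13
    have h81 : Nat.card (D ⧸ N') = 81 := by rw [← Nat.card_congr Additive.toMul]; exact h81'
    obtain ⟨c, hc, rfl⟩ := hy
    have hθc : ∀ q : D ⧸ N', (E0.toHomUnits.rangeRestrict c) • Additive.ofMul q =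
        Additive.ofMul (θ c q) := fun q => rfl
    let W : Subgroup (D ⧸ N') := (θ c).eqLocus (MonoidHom.id _)
    have hinvar : ∀ q r, β (θ c q) (θ c r) = β q r := by
      intro q r
      induction q using QuotientGroup.induction_on with
      | _ x =>
      induction r using QuotientGroup.induction_on with
      | _ y =>
      rw [hθmk, hθmk, hβmk, hβmk]
      refine congrArg ψ (Subtype.ext ?_)
      show ⁅((MulAut.conjNormal c x : D) : A), ((MulAut.conjNormal c y : D) : A)⁆ = ⁅(x : A), (y : A)⁆
      rw [MulAut.conjNormal_apply, MulAut.conjNormal_apply]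
      have e : ⁅c * (x : A) * c⁻¹, c * (y : A) * c⁻¹⁆ = c * ⁅(x : A), (y : A)⁆ * c⁻¹ := by
        simp only [commutatorElement_def]; group
      rw [e, (hcN c hc _ (hcommD x x.2 y y.2)).eq, mul_inv_cancel_right]
    have h13θ : ∀ q, (θ c)^[13] q = q := by
      intro q
      have h1 : ∀ (k : ℕ) (q : D ⧸ N'), (θ c)^[k] q =
          Additive.toMul ((E0.toHomUnits.rangeRestrict c) ^ k • Additive.ofMul q) := by
        intro k
        induction k with
        | zero => intro q; rw [pow_zero, one_smul]; rfl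
        | succ k ih =>
          intro q
          rw [Function.iterate_succ_apply', ih, pow_succ', mul_smul]
          rfl
      rw [h1, ← hy13, pow_orderOf_eq_one, one_smul, toMul_ofMul]
    let β' : W →* (W →* Kˣ) :=
      { toFun := fun w => (β w).comp W.subtype
        map_one' := by simp
        map_mul' := fun a b => by simp [MonoidHom.mul_comp] }
    have hβ' : Function.Injective β' := by
      rw [injective_iff_map_eq_one]
      intro w hw
      refine Subtype.ext (hβinj (MonoidHom.ext fun x => ?_))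
      rw [OneMemClass.coe_one, map_one, MonoidHom.one_apply]
      set S := ∏ i ∈ Finset.range 13, (θ c)^[i] x with hS
      have hSW : S ∈ W := by
        show θ c S = S
        rw [hS, map_prod]
        have e1 : ∀ i ∈ Finset.range 13, θ c ((θ c)^[i] x) = (θ c)^[i + 1] x := fun i _ => by
          rw [Function.iterate_succ_apply']
        rw [Finset.prod_congr rfl e1]
        have h2 := Finset.prod_range_succ' (fun i => (θ c)^[i] x) 13
        have h3 := Finset.prod_range_succ (fun i => (θ c)^[i] x) 13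
        rw [h3, h13θ] at h2
        simp only [Function.iterate_zero, id_eq] at h2
        exact (mul_right_cancel h2).symm
      have h4 : β (w : D ⧸ N') S = 1 := DFunLike.congr_fun hw ⟨S, hSW⟩
      have h5 : ∀ i, β (w : D ⧸ N') ((θ c)^[i] x) = β (w : D ⧸ N') x := by
        intro i
        induction i with
        | zero => rfl
        | succ i ih =>
          rw [Function.iterate_succ_apply']
          conv_lhs => rw [← (show θ c (w : D ⧸ N') = w from w.2)]
          rw [hinvar, ih]
      rw [hS, map_prod, Finset.prod_congr rfl (fun i _ => h5 i), Finset.prod_const,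
        Finset.card_range] at h4
      have h6 : (β (w : D ⧸ N') x) ^ 81 = 1 := hord _ 81 (by rw [← h81]; exact pow_card_eq_one') x
      have h7 := pow_gcd_eq_one.2 ⟨h4, h6⟩
      simpa using h7
    obtain ⟨t, ht⟩ := exists_sq_of_alternating β' (fun w => halt w) hβ'
    haveI : Fact (Nat.Prime 13) := ⟨by norm_num⟩
    have hYp : IsPGroup 13 (Subgroup.zpowers (E0.toHomUnits.rangeRestrict c)) :=
      IsPGroup.of_card (n := 1) (by rw [Nat.card_zpowers, hy13, pow_one])
    have hmod := hYp.card_modEq_card_fixedPoints (Additive (D ⧸ N'))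
    rw [h81'] at hmod
    have hWfix : Nat.card (MulAction.fixedPoints (Subgroup.zpowers (E0.toHomUnits.rangeRestrict c))
        (Additive (D ⧸ N'))) = Nat.card W := by
      refine Nat.card_congr (Additive.toMul.subtypeEquiv fun v => ?_)
      constructor
      · intro h
        have h1 := h ⟨_, Subgroup.mem_zpowers _⟩
        show θ c (Additive.toMul v) = Additive.toMul v
        exact congrArg Additive.toMul h1
      · intro h g
        have hst : E0.toHomUnits.rangeRestrict c ∈ MulAction.stabilizer G v := by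
          rw [MulAction.mem_stabilizer_iff]
          exact congrArg Additive.ofMul h
        exact MulAction.mem_stabilizer_iff.1 ((Subgroup.zpowers_le.2 hst) g.2)
    rw [hWfix, ht] at hmod
    have hdvd81 : t * t ∣ 3 ^ 4 := by
      rw [show (3 : ℕ) ^ 4 = 81 by norm_num, ← ht, ← h81]
      exact W.card_subgroup_dvd_card
    obtain ⟨i, hi, he'⟩ := (Nat.dvd_prime_pow Nat.prime_three).1 hdvd81
    have hne : i ≠ 4 := by
      intro hi4
      have hWtop : W = ⊤ := Subgroup.eq_top_of_card_eq _ (by rw [ht, he', hi4, h81]; norm_num)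
      have h1 : (E0.toHomUnits.rangeRestrict c) = 1 := FaithfulSMul.eq_of_smul_eq_smul
        (α := Additive (D ⧸ N')) fun v => by
          rw [one_smul]
          exact congrArg Additive.ofMul
            (show θ c (Additive.toMul v) = Additive.toMul v from
              (hWtop ▸ Subgroup.mem_top _ : Additive.toMul v ∈ W))
      rw [h1, orderOf_one] at hy13
      norm_num at hy13
    rw [he'] at hmod
    interval_cases i
    · exact absurd hmod (by decide)
    · have : t ≤ 1 := by
        by_contra h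
        push Not at h
        have := Nat.mul_le_mul h h
        omega
      interval_cases t <;> simp at he'
    · exact absurd hmod (by decide)
    · exact absurd hmod (by decide)
    · exact hne rfl
  have hM81 : Nat.card (Additive (D ⧸ N')) = s * s := by rw [Nat.card_congr Additive.toMul, hs]
  have hsmall := small_bounds hGcr hcyc Y (odd_card_subgroup hGodd Y) hM81 hY13
  have hMltV : Nat.card (Additive (D ⧸ N')) < Nat.card V := by
    rw [Nat.card_congr Additive.toMul, hVe]
    refine lt_of_le_of_lt hcardM ?_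
    have h3Q : 3 ≤ Nat.card K := by
      obtain ⟨r, hr, hrs⟩ := Nat.exists_prime_and_dvd (show s ≠ 1 by omega)
      have h1 := Nat.le_of_dvd (by omega) (hdiv r hr hrs)
      have h2 := hr.two_le
      omega
    have hkey : ∀ n, 3 ≤ n → n * n < 3 ^ n := by
      intro n hn
      induction n, hn using Nat.le_induction with
      | base => norm_num
      | succ n hn ih => rw [pow_succ]; nlinarith
    exact (hkey e (hs3.trans hse)).trans_le (Nat.pow_le_pow_left h3Q e)
  obtain ⟨-, hbd⟩ := hlin G (Additive (D ⧸ N')) hGodd hGcr (by omega)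
  haveI : Nontrivial (Additive (D ⧸ N')) := Finite.one_lt_card_iff_nontrivial.1 (by
    rw [hM81]; have := Nat.mul_le_mul hs3 hs3; omega)
  have hf : 3 * Nat.card Y ≤ (s * s) ^ 2 := by
    rw [← hM81]
    exact (Nat.mul_le_mul_left 3 (Nat.card_le_card_of_injective _ Subtype.val_injective)).trans
      (hbd inferInstance)
  have hCY : Nat.card C ≤ Nat.card Y * Nat.card D := by
    let π : C →* Y :=
      { toFun := fun c => ⟨E0.toHomUnits.rangeRestrict c, c, c.2, rfl⟩
        map_one' := Subtype.ext (map_one _)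
        map_mul' := fun a b => Subtype.ext (map_mul _ (a : A) b) }
    rw [← π.ker.index_mul_card, Subgroup.index_ker]
    refine Nat.mul_le_mul (Nat.card_le_card_of_injective _ Subtype.val_injective) ?_
    refine Nat.card_le_card_of_injective (fun c : π.ker => (⟨((c : C) : A), ?_⟩ : D))
      fun a b h => Subtype.ext (Subtype.ext (congrArg (fun t : D => (t : A)) h))
    show ((c : C) : A) ∈ D
    refine hXD.le ⟨(c : C).2, fun d hd => ?_⟩
    have h1 : (π (c : C) : G) = 1 := congrArg Subtype.val (MonoidHom.mem_ker.1 c.2)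
    have h2 : θ ((c : C) : A) (QuotientGroup.mk (⟨d, hd⟩ : D)) = QuotientGroup.mk (⟨d, hd⟩ : D) := by
      have h3 := congrArg (fun g : G => g • Additive.ofMul (QuotientGroup.mk (⟨d, hd⟩ : D) : D ⧸ N')) h1
      simp only [one_smul] at h3
      exact congrArg Additive.toMul h3
    rw [hθmk] at h2
    have h4 := Subgroup.mem_subgroupOf.1 (QuotientGroup.eq.1 h2.symm)
    change d⁻¹ * ((MulAut.conjNormal ((c : C) : A) (⟨d, hd⟩ : D) : D) : A) ∈ N at h4
    rw [MulAut.conjNormal_apply] at h4
    have h5 := hN.conj_mem _ h4 d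
    rwa [show d * (d⁻¹ * (((c : C) : A) * d * ((c : C) : A)⁻¹)) * d⁻¹ = ⁅((c : C) : A), d⁆ by
      rw [commutatorElement_def]; group] at h5
  have haodd : Odd C.index := odd_card_of_dvd hA C.index_dvd_card
  have hAcard : Nat.card A ≤ (Nat.card K - 1) * C.index * (s * s) * Nat.card Y := by
    rw [← C.card_mul_index]
    calc Nat.card C * C.index ≤ Nat.card Y * Nat.card D * C.index := Nat.mul_le_mul_right _ hCY
      _ = Nat.card N * C.index * (s * s) * Nat.card Y := by rw [hDN', hs]; ring
      _ ≤ (Nat.card K - 1) * C.index * (s * s) * Nat.card Y :=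
          Nat.mul_le_mul_right _ (Nat.mul_le_mul_right _ (Nat.mul_le_mul_right _
            (Nat.le_of_dvd (by omega) hdvdN)))
  have hcount : Nat.card A ^ 3 < 8 * Nat.card V ^ 2 := by
    calc Nat.card A ^ 3 ≤ ((Nat.card K - 1) * C.index * (s * s) * Nat.card Y) ^ 3 :=
          Nat.pow_le_pow_left hAcard 3
      _ < 8 * Nat.card K ^ (2 * s) :=
          primitive_count hp hQ haodd ham hs3 hsodd hdiv hf hQ2 hsmall
      _ ≤ 8 * Nat.card K ^ (2 * e) :=
          Nat.mul_le_mul_left _ (Nat.pow_le_pow_right (by omega) (by omega))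
      _ = 8 * Nat.card V ^ 2 := by rw [hVe]; ring
  -- fixed spaces
  have hfpf : ∀ n ∈ N, n ≠ 1 → Nat.card (fixAdd (V := V) n) = 1 := by
    intro n hn hn1
    rw [← eq_bot_iff_card_one]
    exact (AddSubgroup.eq_bot_iff_forall _).2 fun v hv => fixed_eq_zero hirr hprim N hab hn hn1 hv
  have hV1 : 1 ≤ Nat.card V := Nat.card_pos
  have hcomm_ne : ∀ g x : A, g * x ≠ x * g → ⁅g, x⁆ ≠ 1 := fun g x h e =>
    h (commutatorElement_eq_one_iff_mul_comm.1 e)
  have hDfix : ∀ g ∈ D, g ≠ 1 → Nat.card (fixAdd (V := V) g) ^ 3 ≤ Nat.card V := by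
    intro g hg hg1
    by_cases hgN : g ∈ N
    · rw [hfpf g hgN hg1, one_pow]; exact hV1
    · obtain ⟨y, hy, hne⟩ : ∃ y ∈ D, g * y ≠ y * g := by
        by_contra hall
        push Not at hall
        exact hgN (hCCD ⟨hDC hg, Subgroup.mem_centralizer_iff.2 fun y hy => (hall y hy).symm⟩)
      set z := ⁅g, y⁆ with hz
      have hzN : z ∈ N := hcommD g hg y hy
      have hz1 : z ≠ 1 := hcomm_ne g y hne
      refine card_fix_cube_le (g := g) (y := y) (z := z) ?_ (hcN g (hDC hg) z hzN).eq
        (hcN y (hDC hy) z hzN).eq.symm fun b hb => ?_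
      · rw [hz, commutatorElement_def]; group
      · rw [← mul_smul, ← pow_two] at hb
        exact fixed_eq_zero hirr hprim N hab (pow_mem hzN 2) (fun h => hz1 (eq_one_of_sq hA h)) hb
  have hfix : ∀ g : A, g ≠ 1 → Nat.card (fixAdd (V := V) g) ^ 3 ≤ Nat.card V ^ 2 := by
    intro g hg1
    by_cases hgD : g ∈ D
    · exact (hDfix g hgD hg1).trans (Nat.le_self_pow two_ne_zero _)
    obtain ⟨x, hc1, hcD⟩ : ∃ x : A, ⁅g, x⁆ ≠ 1 ∧ ⁅g, x⁆ ∈ D := by
      by_cases hgC : g ∈ C
      · have : ∃ x ∈ D, ⁅g, x⁆ ∉ N := by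
          by_contra hall
          push Not at hall
          exact hgD (hXD ▸ ⟨hgC, hall⟩)
        obtain ⟨x, hx, hxN⟩ := this
        refine ⟨x, fun h => hxN (h ▸ one_mem N), ?_⟩
        rw [commutatorElement_def]
        exact mul_mem (hD.conj_mem x hx g) (inv_mem hx)
      · rw [hCdef, Subgroup.mem_centralizer_iff] at hgC
        push Not at hgC
        obtain ⟨n, hn, hgn⟩ := hgC
        refine ⟨n, hcomm_ne g n (Ne.symm hgn), hND ?_⟩
        rw [commutatorElement_def]
        exact mul_mem (hN.conj_mem n hn g) (inv_mem hn)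
    have h1 := card_fix_sq_le (V := V) g x
    have h2 := hDfix _ hcD hc1
    refine (Nat.pow_le_pow_iff_left two_ne_zero).1 ?_
    calc (Nat.card (fixAdd (V := V) g) ^ 3) ^ 2 = (Nat.card (fixAdd (V := V) g) ^ 2) ^ 3 := by ring
      _ ≤ (Nat.card V * Nat.card (fixAdd (V := V) ⁅g, x⁆)) ^ 3 := Nat.pow_le_pow_left h1 3
      _ = Nat.card V ^ 3 * Nat.card (fixAdd (V := V) ⁅g, x⁆) ^ 3 := by ring
      _ ≤ Nat.card V ^ 3 * Nat.card V := Nat.mul_le_mul_left _ h2
      _ = (Nat.card V ^ 2) ^ 2 := by ring
  refine ⟨exists_pair_of_fix hA hfix hcount, fun _ => ?_⟩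
  refine (Nat.pow_le_pow_iff_left three_ne_zero).1 ?_
  have hV27 : 3 ^ 2 ≤ Nat.card V := by
    have := Nat.mul_le_mul hs3 hs3
    omega
  have h216 : 216 ≤ Nat.card V ^ 4 := le_trans (by norm_num) (Nat.pow_le_pow_left hV27 4)
  calc (3 * Nat.card A) ^ 3 = 27 * Nat.card A ^ 3 := by ring
    _ ≤ 27 * (8 * Nat.card V ^ 2) := Nat.mul_le_mul_left _ hcount.le
    _ = 216 * Nat.card V ^ 2 := by ring
    _ ≤ Nat.card V ^ 4 * Nat.card V ^ 2 := Nat.mul_le_mul_right _ h216
    _ = (Nat.card V ^ 2) ^ 3 := by ring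

end CfsgLib.Char.OddBase
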