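import Cfsg.Agent.Lib.Char.OddBase.Perm

/-!
# Reduction to irreducible primitive linear groups
-/

set_option autoImplicit false
set_option linter.unusedSectionVars false
set_option linter.style.haveILetI false

namespace CfsgLib.Char.OddBase

open scoped Pointwise

universe u

variable {A V : Type u} [Group A] [AddCommGroup V] [DistribMulAction A V]

/-- The action on an invariant subgroup, as a homomorphism into units of the endomorphism ring. -/
def restrictUnits (U : AddSubgroup V) (hU : ∀ a : A, ∀ v ∈ U, a • v ∈ U) :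
    A →* (AddMonoid.End U)ˣ :=
  MonoidHom.toHomUnits
    { toFun := fun a =>
        ({ toFun := fun u => ⟨a • (u : V), hU a u u.2⟩
           map_zero' := Subtype.ext (smul_zero a)
           map_add' := fun x y => Subtype.ext (smul_add a (x : V) y) } : U →+ U)
      map_one' := by
        refine AddMonoidHom.ext fun u => Subtype.ext ?_
        exact one_smul A (u : V)
      map_mul' := fun a b => by
        refine AddMonoidHom.ext fun u => Subtype.ext ?_
        exact mul_smul a b (u : V) }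

theorem restrictUnits_smul (U : AddSubgroup V) (hU : ∀ a : A, ∀ v ∈ U, a • v ∈ U) (a : A) (u : U) :
    ((restrictUnits U hU a • u : U) : V) = a • (u : V) := rfl

theorem range_smul (U : AddSubgroup V) (hU : ∀ a : A, ∀ v ∈ U, a • v ∈ U) (a : A) (u : U) :
    (((⟨restrictUnits U hU a, a, rfl⟩ : (restrictUnits U hU).range) • u : U) : V) = a • (u : V) :=
  rfl

instance units_end_faithful (M : Type u) [AddCommGroup M] (S : Subgroup (AddMonoid.End M)ˣ) :
    FaithfulSMul S M :=
  ⟨fun {x y} h => Subtype.ext (Units.ext (AddMonoidHom.ext fun m => h m))⟩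

instance end_finite (M : Type u) [AddCommGroup M] [Finite M] : Finite (AddMonoid.End M) :=
  Finite.of_injective (fun f : AddMonoid.End M => (⇑f : M → M)) DFunLike.coe_injective

theorem eq_bot_iff_card_one {M : Type u} [AddCommGroup M] {U : AddSubgroup M} [Finite M] :
    U = ⊥ ↔ Nat.card U = 1 := AddSubgroup.eq_bot_iff_card U

/-- Vectors `v` with `a • v = v` for all `a` of a trivial group. -/
theorem good_of_subsingleton [FaithfulSMul A V] [Subsingleton V] : Good A V :=
  ⟨⟨0, 0, fun a _ _ => FaithfulSMul.eq_of_smul_eq_smul (α := V) fun _ => Subsingleton.elim _ _⟩,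
    fun h => (not_nontrivial V h).elim⟩

/-- A completely reducible group is good if it is good on two complementary invariant subgroups. -/
theorem good_split [Finite A] [Finite V] [FaithfulSMul A V] (U W : AddSubgroup V)
    (hU : ∀ a : A, ∀ v ∈ U, a • v ∈ U) (hW : ∀ a : A, ∀ v ∈ W, a • v ∈ W)
    (hbot : U ⊓ W = ⊥) (htop : U ⊔ W = ⊤) [Nontrivial U] [Nontrivial W]
    (h1 : Good (restrictUnits U hU).range U) (h2 : Good (restrictUnits W hW).range W) :
    Good A V := by
  obtain ⟨⟨x1, y1, hb1⟩, hc1⟩ := h1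
  obtain ⟨⟨x2, y2, hb2⟩, hc2⟩ := h2
  set f1 := restrictUnits U hU
  set f2 := restrictUnits W hW
  have hdec : ∀ v : V, ∃ u : U, ∃ w : W, (u : V) + w = v := by
    intro v
    obtain ⟨u, hu, w, hw, e⟩ := AddSubgroup.mem_sup.1 (htop ▸ AddSubgroup.mem_top v)
    exact ⟨⟨u, hu⟩, ⟨w, hw⟩, e⟩
  have huniq : ∀ (u u' : U) (w w' : W), (u : V) + w = u' + w' → u = u' ∧ w = w' := by
    intro u u' w w' e
    have e' : (u : V) - u' = w' - w := by
      rw [sub_eq_sub_iff_add_eq_add, e, add_comm]
    have h : (u : V) - u' ∈ U ⊓ W :=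
      AddSubgroup.mem_inf.2 ⟨sub_mem u.2 u'.2, e' ▸ sub_mem w'.2 w.2⟩
    rw [hbot, AddSubgroup.mem_bot, sub_eq_zero] at h
    rw [h, sub_self, eq_comm, sub_eq_zero] at e'
    exact ⟨Subtype.ext h, Subtype.ext e'.symm⟩
  have hker : ∀ a : A, f1 a = 1 → f2 a = 1 → a = 1 := fun a e1 e2 =>
    FaithfulSMul.eq_of_smul_eq_smul (α := V) fun v => by
      obtain ⟨u, w, rfl⟩ := hdec v
      rw [one_smul, smul_add, ← restrictUnits_smul U hU, ← restrictUnits_smul W hW]
      show ((f1 a • u : U) : V) + ((f2 a • w : W) : V) = _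
      rw [e1, e2, one_smul, one_smul]
  refine ⟨⟨(x1 : V) + x2, (y1 : V) + y2, fun a e1 e2 => hker a ?_ ?_⟩, fun _ => ?_⟩
  · rw [smul_add] at e1 e2
    have k1 := huniq (f1 a • x1) x1 (f2 a • x2) x2 e1
    have k2 := huniq (f1 a • y1) y1 (f2 a • y2) y2 e2
    exact congrArg Subtype.val (hb1 ⟨f1 a, a, rfl⟩ k1.1 k2.1)
  · rw [smul_add] at e1 e2
    have k1 := huniq (f1 a • x1) x1 (f2 a • x2) x2 e1
    have k2 := huniq (f1 a • y1) y1 (f2 a • y2) y2 e2
    exact congrArg Subtype.val (hb2 ⟨f2 a, a, rfl⟩ k1.2 k2.2)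
  · have hle : Nat.card A ≤ Nat.card f1.range * Nat.card f2.range := by
      rw [← Nat.card_prod]
      refine Nat.card_le_card_of_injective (fun g => (f1.rangeRestrict g, f2.rangeRestrict g))
        fun a b hab => ?_
      simp only [Prod.mk.injEq] at hab
      have e1 : f1 a = f1 b := congrArg Subtype.val hab.1
      have e2 : f2 a = f2 b := congrArg Subtype.val hab.2
      exact (inv_mul_eq_one.1 (hker (b⁻¹ * a) (by rw [map_mul, map_inv, e1, inv_mul_cancel])
        (by rw [map_mul, map_inv, e2, inv_mul_cancel]))).symm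
    have hbij : Function.Bijective (fun x : U × W => (x.1 : V) + x.2) :=
      ⟨fun x y e => Prod.ext (huniq _ _ _ _ e).1 (huniq _ _ _ _ e).2,
        fun v => let ⟨u, w, e⟩ := hdec v; ⟨(u, w), e⟩⟩
    rw [← Nat.card_eq_of_bijective _ hbij, Nat.card_prod, mul_pow]
    refine le_trans ?_ (Nat.mul_le_mul (hc1 inferInstance) (hc2 inferInstance))
    calc 3 * Nat.card A ≤ 3 * (Nat.card f1.range * Nat.card f2.range) := Nat.mul_le_mul_left _ hle
      _ ≤ 3 * Nat.card f1.range * (3 * Nat.card f2.range) := by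
          rw [show 3 * Nat.card f1.range * (3 * Nat.card f2.range) =
            3 * (3 * (Nat.card f1.range * Nat.card f2.range)) by ring]
          omega

/-- A system of imprimitivity: at least two non-trivial summands permuted by the group. -/
structure System (A V : Type u) [Group A] [AddCommGroup V] [DistribMulAction A V] where
  /-- the index set -/
  I : Type u
  [inst : MulAction A I]
  [fin : Fintype I]
  /-- the summands -/
  W : I → AddSubgroup V
  maps : ∀ (a : A) (i : I), ∀ v ∈ W i, a • v ∈ W (a • i)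
  bij : Function.Bijective fun f : ∀ i, W i => ∑ i, (f i : V)
  ne_bot : ∀ i, W i ≠ ⊥
  two_le : 2 ≤ Fintype.card I

attribute [instance] System.inst System.fin

variable (s : System A V)

theorem System.eq_of_sum_eq {f g : s.I → V} (hf : ∀ i, f i ∈ s.W i) (hg : ∀ i, g i ∈ s.W i)
    (h : ∑ i, f i = ∑ i, g i) : f = g := by
  have e : (fun i => (⟨f i, hf i⟩ : s.W i)) = fun i => ⟨g i, hg i⟩ := s.bij.1 h
  funext i
  exact congrArg Subtype.val (congrFun e i)

theorem System.exists_sum (v : V) : ∃ f : s.I → V, (∀ i, f i ∈ s.W i) ∧ ∑ i, f i = v := by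
  obtain ⟨f, hf⟩ := s.bij.2 v
  exact ⟨fun i => (f i : V), fun i => (f i).2, hf⟩

/-- In an irreducible group the summands are permuted transitively. -/
theorem System.transitive (hirr : IsIrr A V) : MulAction.IsPretransitive A s.I := by
  classical
  refine ⟨fun i j => ?_⟩
  by_contra hj
  let U : AddSubgroup V :=
    { carrier := {v | ∃ f : s.I → V, (∀ k, f k ∈ s.W k) ∧ ∑ k, f k = v ∧
        ∀ k, k ∉ MulAction.orbit A i → f k = 0}
      zero_mem' := ⟨fun _ => 0, fun k => zero_mem _, Finset.sum_const_zero, fun _ _ => rfl⟩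
      add_mem' := fun {v w} ⟨f, hf, hfv, hf0⟩ ⟨g, hg, hgw, hg0⟩ =>
        ⟨f + g, fun k => add_mem (hf k) (hg k), by
          simp only [Pi.add_apply, Finset.sum_add_distrib, hfv, hgw],
          fun k hk => by rw [Pi.add_apply, hf0 k hk, hg0 k hk, add_zero]⟩
      neg_mem' := fun {v} ⟨f, hf, hfv, hf0⟩ =>
        ⟨-f, fun k => neg_mem (hf k), by simp only [Pi.neg_apply, Finset.sum_neg_distrib, hfv],
          fun k hk => by rw [Pi.neg_apply, hf0 k hk, neg_zero]⟩ }
  have hU : ∀ a : A, ∀ v ∈ U, a • v ∈ U := by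
    rintro a v ⟨f, hf, hfv, hf0⟩
    refine ⟨fun k => a • f (a⁻¹ • k), fun k => ?_, ?_, fun k hk => ?_⟩
    · have := s.maps a (a⁻¹ • k) _ (hf (a⁻¹ • k))
      rwa [smul_inv_smul] at this
    · rw [← hfv, Finset.smul_sum]
      exact Fintype.sum_equiv (MulAction.toPerm a⁻¹) _ _ fun k => rfl
    · have : a⁻¹ • k ∉ MulAction.orbit A i := fun h => hk (by
        obtain ⟨t, ht⟩ := h
        exact ⟨a * t, by simp only at ht ⊢; rw [mul_smul, ht, smul_inv_smul]⟩)
      show a • f (a⁻¹ • k) = 0
      rw [hf0 _ this, smul_zero]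
  rcases hirr.2 U hU with e | e
  · refine s.ne_bot i ((AddSubgroup.eq_bot_iff_forall _).2 fun w hw => ?_)
    have : w ∈ U := ⟨fun k => if k = i then w else 0, fun k => by
      show (if k = i then w else 0) ∈ _
      split
      · next h => subst h; exact hw
      · exact zero_mem _, by simp, fun k hk => if_neg (fun h : k = i => hk (by
          rw [h]; exact MulAction.mem_orbit_self i))⟩
    rw [e] at this
    exact this
  · refine s.ne_bot j ((AddSubgroup.eq_bot_iff_forall _).2 fun w hw => ?_)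
    obtain ⟨f, hf, hfv, hf0⟩ : w ∈ U := e ▸ AddSubgroup.mem_top w
    have := s.eq_of_sum_eq hf (g := fun k => if k = j then w else 0) (fun k => by
      show (if k = j then w else 0) ∈ _
      split
      · next h => subst h; exact hw
      · exact zero_mem _) (by rw [hfv]; simp)
    have h2 := congrFun this j
    rw [if_pos rfl, hf0 j (fun ⟨t, ht⟩ => hj ⟨t, ht⟩)] at h2
    exact h2.symm

theorem System.card_W [Finite V] (hirr : IsIrr A V) (i j : s.I) :
    Nat.card (s.W i) = Nat.card (s.W j) := by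
  haveI := s.transitive hirr
  obtain ⟨a, rfl⟩ := MulAction.exists_smul_eq A i j
  refine Nat.card_eq_of_bijective (fun w : s.W i => (⟨a • (w : V), s.maps a i w w.2⟩ : s.W (a • i)))
    ⟨fun x y e => Subtype.ext (MulAction.injective a (congrArg Subtype.val e)), fun y => ?_⟩
  have := s.maps a⁻¹ (a • i) y y.2
  rw [inv_smul_smul] at this
  exact ⟨⟨a⁻¹ • (y : V), this⟩, Subtype.ext (smul_inv_smul a (y : V))⟩

theorem System.card_V [Finite V] (hirr : IsIrr A V) (i : s.I) :
    Nat.card V = Nat.card (s.W i) ^ Fintype.card s.I := by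
  rw [← Nat.card_eq_of_bijective _ s.bij, Nat.card_pi,
    Finset.prod_congr rfl (fun j _ => s.card_W hirr j i), Finset.prod_const, Finset.card_univ]

/-- An imprimitive irreducible group is good. -/
theorem good_system (s : System A V) [Finite A] [Finite V] [FaithfulSMul A V] (hA : Odd (Nat.card A))
    (hirr : IsIrr A V) {N : ℕ} (hlin : LinBelow.{u} N) (hN : Nat.card V ≤ N + 1) : Good A V := by
  classical
  haveI := hirr.1
  haveI := s.transitive hirr
  haveI : Nonempty s.I := Fintype.card_pos_iff.1 (by have := s.two_le; omega)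
  obtain ⟨i0⟩ := (inferInstance : Nonempty s.I)
  set St := MulAction.stabilizer A i0 with hSt
  set W0 := s.W i0 with hW0
  have hStW : ∀ a : St, ∀ v ∈ W0, a • v ∈ W0 := fun a v hv => by
    have := s.maps (a : A) i0 v hv
    rwa [MulAction.mem_stabilizer_iff.1 a.2] at this
  set ρ := restrictUnits W0 hStW with hρ
  have hex : ∀ i : s.I, ∃ a : A, a • i0 = i := fun i => MulAction.exists_smul_eq A i0 i
  choose gs hgs using hex
  have hWn : Nontrivial W0 := (AddSubgroup.nontrivial_iff_ne_bot W0).2 (s.ne_bot i0)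
  have hgsmem : ∀ (i : s.I) (w : W0), gs i • (w : V) ∈ s.W i := fun i w => by
    have := s.maps (gs i) i0 w w.2
    rwa [hgs] at this
  have hback : ∀ (i : s.I), ∀ v ∈ s.W i, (gs i)⁻¹ • v ∈ W0 := fun i v hv => by
    have := s.maps (gs i)⁻¹ i v hv
    rwa [show (gs i)⁻¹ • i = i0 by rw [inv_smul_eq_iff, hgs]] at this
  have hWirr : IsIrr ρ.range W0 := by
    refine ⟨hWn, fun U hU => ?_⟩
    have hUSt : ∀ h : St, ∀ u ∈ U, ρ h • u ∈ U := fun h u hu => hU ⟨ρ h, h, rfl⟩ u hu
    let Uh : AddSubgroup V :=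
      { carrier := {v | ∃ f : s.I → W0, (∀ i, f i ∈ U) ∧ ∑ i, gs i • (f i : V) = v}
        zero_mem' := ⟨fun _ => 0, fun _ => zero_mem _, by simp⟩
        add_mem' := fun {v w} ⟨f, hf, hfv⟩ ⟨g, hg, hgw⟩ => ⟨f + g, fun i => add_mem (hf i) (hg i), by
          simp only [Pi.add_apply, AddSubgroup.coe_add, smul_add, Finset.sum_add_distrib, hfv, hgw]⟩
        neg_mem' := fun {v} ⟨f, hf, hfv⟩ => ⟨-f, fun i => neg_mem (hf i), by
          simp only [Pi.neg_apply, AddSubgroup.coe_neg, smul_neg, Finset.sum_neg_distrib, hfv]⟩ }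
    have hUh : ∀ a : A, ∀ v ∈ Uh, a • v ∈ Uh := by
      rintro a v ⟨f, hf, hfv⟩
      have hh : ∀ j : s.I, (gs j)⁻¹ * a * gs (a⁻¹ • j) ∈ St := fun j => by
        rw [MulAction.mem_stabilizer_iff, mul_smul, mul_smul, hgs, smul_inv_smul, inv_smul_eq_iff,
          hgs]
      refine ⟨fun j => ρ ⟨_, hh j⟩ • f (a⁻¹ • j), fun j => hUSt _ _ (hf _), ?_⟩
      rw [← hfv, Finset.smul_sum]
      refine Fintype.sum_equiv (MulAction.toPerm a⁻¹) _ _ fun j => ?_
      show gs j • (((gs j)⁻¹ * a * gs (a⁻¹ • j)) • (f (a⁻¹ • j) : V)) = _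
      rw [← mul_smul, ← mul_smul]
      congr 1
      group
      rfl
    rcases hirr.2 Uh hUh with e | e
    · left
      refine (AddSubgroup.eq_bot_iff_forall _).2 fun u hu => ?_
      have hm : gs i0 • (u : V) ∈ Uh := ⟨fun i => if i = i0 then u else 0, fun i => by
        show (if i = i0 then u else 0) ∈ U
        split
        · exact hu
        · exact zero_mem _, by
        rw [Finset.sum_eq_single i0 (fun i _ hi => by simp [if_neg hi])
          (fun h => absurd (Finset.mem_univ i0) h)]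
        simp⟩
      rw [e, AddSubgroup.mem_bot, smul_eq_zero_iff_eq] at hm
      exact Subtype.ext hm
    · right
      refine eq_top_iff.2 fun w _ => ?_
      obtain ⟨f, hf, hfv⟩ : (w : V) ∈ Uh := e ▸ AddSubgroup.mem_top _
      have := s.eq_of_sum_eq (f := fun i => gs i • (f i : V)) (fun i => hgsmem i (f i))
        (g := fun i => if i = i0 then (w : V) else 0) (fun i => by
          split
          · next h => subst h; exact w.2
          · exact zero_mem _) (by rw [hfv]; simp)
      have h2 := congrFun this i0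
      rw [if_pos rfl] at h2
      have hg0 : gs i0 ∈ St := hgs i0
      have h3 : ρ ⟨_, hg0⟩ • f i0 = w := Subtype.ext h2
      rw [← h3]
      exact hUSt _ _ (hf i0)
  have hVk := s.card_V hirr i0
  have hW2 : 2 ≤ Nat.card W0 := Finite.one_lt_card
  have hWlt : Nat.card W0 < Nat.card V := by
    rw [hVk]
    calc Nat.card W0 = Nat.card W0 ^ 1 := (pow_one _).symm
      _ < _ := Nat.pow_lt_pow_right hW2 (by have := s.two_le; omega)
  have hklt : Fintype.card s.I < Nat.card V := by
    rw [hVk]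
    exact lt_of_lt_of_le Nat.lt_two_pow_self (Nat.pow_le_pow_left hW2 _)
  obtain ⟨⟨x, y, hxy⟩, hcW⟩ :=
    hlin ρ.range W0 (odd_card_of_dvd (odd_card_subgroup hA St) (Subgroup.card_range_dvd ρ))
      hWirr.isCR (by omega)
  set φ := MulAction.toPermHom A s.I with hφ
  obtain ⟨⟨T, hT⟩, hcT⟩ := permGood_of_linBelow N hlin (Fintype.card s.I) (by omega) φ.range s.I
    (odd_card_of_dvd hA (Subgroup.card_range_dvd φ)) Nat.card_eq_fintype_card
  have hWodd : ∀ h : ρ.range, h ^ 2 = 1 → h = 1 := fun h =>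
    eq_one_of_sq (odd_card_of_dvd (odd_card_subgroup hA St) (Subgroup.card_range_dvd ρ))
  -- two pairs with trivial stabiliser in different orbits
  obtain ⟨x, y, x', y', hxy, hxy', hdiff⟩ : ∃ x y x' y' : W0,
      (∀ h : ρ.range, h • x = x → h • y = y → h = 1) ∧
      (∀ h : ρ.range, h • x' = x' → h • y' = y' → h = 1) ∧
      ∀ h : ρ.range, ¬ (h • x = x' ∧ h • y = y') := by
    by_cases hsame : ∃ h : ρ.range, h • x = y ∧ h • y = x
    · obtain ⟨h, h1, h2⟩ := hsame
      have hh : h = 1 := hWodd h (hxy _ (by rw [pow_two, mul_smul, h1, h2])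
        (by rw [pow_two, mul_smul, h2, h1]))
      rw [hh, one_smul] at h1
      subst h1
      have hreg : ∃ w : W0, w ≠ 0 ∧ ∀ h : ρ.range, h • w = w → h = 1 := by
        by_cases hx0 : x = 0
        · obtain ⟨w, hw⟩ := exists_ne (0 : W0)
          exact ⟨w, hw, fun h _ => hxy h (by rw [hx0, smul_zero]) (by rw [hx0, smul_zero])⟩
        · exact ⟨x, hx0, fun h e => hxy h e e⟩
      obtain ⟨w, hw, hwreg⟩ := hreg
      exact ⟨w, 0, 0, w, fun h e _ => hwreg h e, fun h _ e => hwreg h e,
        fun h e => hw ((smul_eq_zero_iff_eq h).1 e.1)⟩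
    · exact ⟨x, y, y, x, hxy, fun h e1 e2 => hxy h e2 e1, fun h e => hsame ⟨h, e⟩⟩
  refine ⟨?_, fun _ => ?_⟩
  · let X : s.I → W0 := fun i => if i ∈ T then x else x'
    let Y : s.I → W0 := fun i => if i ∈ T then y else y'
    refine ⟨∑ i, gs i • (X i : V), ∑ i, gs i • (Y i : V), fun a e1 e2 => ?_⟩
    have key : ∀ (Z : s.I → W0), a • ∑ i, gs i • (Z i : V) = ∑ i, gs i • (Z i : V) →
        ∀ i, a • gs i • (Z i : V) = gs (a • i) • (Z (a • i) : V) := by
      intro Z e i
      rw [Finset.smul_sum] at e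
      rw [Fintype.sum_equiv (MulAction.toPerm a)
        (fun j => a • gs j • (Z j : V)) (fun j => a • gs (a⁻¹ • j) • (Z (a⁻¹ • j) : V))
        (fun j => by simp)] at e
      have := congrFun (s.eq_of_sum_eq (fun j => by
        have h := s.maps a (a⁻¹ • j) _ (hgsmem (a⁻¹ • j) (Z (a⁻¹ • j)))
        rwa [smul_inv_smul] at h) (fun j => hgsmem j (Z j)) e) (a • i)
      rwa [inv_smul_smul] at this
    have hh : ∀ i : s.I, (gs (a • i))⁻¹ * a * gs i ∈ St := fun i => by
      rw [MulAction.mem_stabilizer_iff, mul_smul, mul_smul, hgs, inv_smul_eq_iff, hgs]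
    have hpair : ∀ (Z : s.I → W0), a • ∑ i, gs i • (Z i : V) = ∑ i, gs i • (Z i : V) →
        ∀ i, (⟨ρ ⟨_, hh i⟩, _, rfl⟩ : ρ.range) • Z i = Z (a • i) := by
      intro Z e i
      refine Subtype.ext ?_
      rw [hρ, range_smul]
      show ((gs (a • i))⁻¹ * a * gs i) • (Z i : V) = _
      rw [mul_smul, mul_smul, key Z e i, inv_smul_smul]
    have htop : ∀ i : s.I, a • i ∈ T ↔ i ∈ T := by
      intro i
      by_contra hd
      have h1 := hpair X e1 i
      have h2 := hpair Y e2 i
      simp only [X, Y] at h1 h2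
      by_cases hi : i ∈ T
      · rw [if_pos hi, if_neg (fun e => hd (iff_of_true e hi))] at h1 h2
        exact hdiff _ ⟨h1, h2⟩
      · rw [if_neg hi, if_pos (by by_contra e; exact hd (iff_of_false e hi))] at h1 h2
        exact hdiff _ ⟨inv_smul_eq_iff.2 h1.symm, inv_smul_eq_iff.2 h2.symm⟩
    have hfix : ∀ i : s.I, a • i = i := fun i =>
      Equiv.congr_fun (congrArg Subtype.val (hT ⟨φ a, a, rfl⟩ (smul_set_eq_iff.2 fun i => htop i))) i
    refine FaithfulSMul.eq_of_smul_eq_smul (α := V) fun v => ?_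
    rw [one_smul]
    obtain ⟨f, hf, rfl⟩ := s.exists_sum v
    rw [Finset.smul_sum]
    refine Finset.sum_congr rfl fun i _ => ?_
    have h1 := (hpair X e1 i).trans (congrArg X (hfix i))
    have h2 := (hpair Y e2 i).trans (congrArg Y (hfix i))
    have h3 : (⟨ρ ⟨_, hh i⟩, _, rfl⟩ : ρ.range) = 1 := by
      simp only [X, Y] at h1 h2
      by_cases hi : i ∈ T
      · rw [if_pos hi] at h1 h2; exact hxy _ h1 h2
      · rw [if_neg hi] at h1 h2; exact hxy' _ h1 h2
    have h4 := congrArg Subtype.val (congrArg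
      (fun r : ρ.range => r • (⟨(gs i)⁻¹ • f i, hback i _ (hf i)⟩ : W0)) h3)
    simp only [one_smul] at h4
    rw [hρ, range_smul] at h4
    change ((gs (a • i))⁻¹ * a * gs i) • (gs i)⁻¹ • f i = _ at h4
    rw [hfix i, mul_smul, smul_inv_smul, mul_smul] at h4
    exact MulAction.injective _ h4
  · have hker : Nat.card φ.ker ≤ Nat.card ρ.range ^ Nat.card s.I := by
      rw [← Nat.card_fun]
      have hst : ∀ (k : φ.ker) (i : s.I), (k : A) • i = i := fun k i => Equiv.congr_fun k.2 i
      have hh : ∀ (k : φ.ker) (i : s.I), (gs i)⁻¹ * k * gs i ∈ St := by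
        intro k i
        rw [MulAction.mem_stabilizer_iff, mul_smul, mul_smul, hgs, inv_smul_eq_iff, hgs, hst]
      refine Nat.card_le_card_of_injective
        (fun (k : φ.ker) (i : s.I) => ρ.rangeRestrict ⟨_, hh k i⟩) fun k l e => ?_
      refine Subtype.ext (FaithfulSMul.eq_of_smul_eq_smul (α := V) fun v => ?_)
      obtain ⟨f, hf, rfl⟩ := s.exists_sum v
      rw [Finset.smul_sum, Finset.smul_sum]
      refine Finset.sum_congr rfl fun i _ => ?_
      have e1 := congrArg Subtype.val (congrArg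
        (fun r : ρ.range => r • (⟨(gs i)⁻¹ • f i, hback i _ (hf i)⟩ : W0)) (congrFun e i))
      change ((gs i)⁻¹ * k * gs i) • (gs i)⁻¹ • f i = ((gs i)⁻¹ * l * gs i) • (gs i)⁻¹ • f i at e1
      rw [mul_smul, smul_inv_smul, mul_smul, mul_smul, smul_inv_smul, mul_smul] at e1
      exact MulAction.injective _ e1
    have hcard : Nat.card A ≤ Nat.card φ.range * Nat.card ρ.range ^ Nat.card s.I := by
      rw [← Subgroup.card_mul_index φ.ker, Subgroup.index_ker, mul_comm]
      exact Nat.mul_le_mul_left _ hker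
    have e1 := hcT inferInstance
    have e2 := Nat.pow_le_pow_left (hcW hWn) (Nat.card s.I)
    rw [hVk, ← Nat.card_eq_fintype_card, ← pow_mul, mul_comm (Nat.card s.I), pow_mul]
    refine Nat.le_of_mul_le_mul_left ?_ (show 0 < 3 ^ Nat.card s.I from pow_pos (by norm_num) _)
    calc 3 ^ Nat.card s.I * (3 * Nat.card A)
        ≤ 3 ^ Nat.card s.I * (3 * (Nat.card φ.range * Nat.card ρ.range ^ Nat.card s.I)) :=
          Nat.mul_le_mul_left _ (Nat.mul_le_mul_left _ hcard)
      _ = (3 * Nat.card φ.range) * (3 * Nat.card ρ.range) ^ Nat.card s.I := by ring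
      _ ≤ 3 ^ Nat.card s.I * (Nat.card W0 ^ 2) ^ Nat.card s.I := Nat.mul_le_mul e1 e2

end CfsgLib.Char.OddBase
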